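import Mathlib

/-!
# A Fisher inequality for group actions

If `G` is 2-transitive on `X`, transitive on `Y` and not transitive on `X × Y` (with `X` transitive: a point
stabiliser of `X` is not transitive on `Y`), then `|X| ≤ |Y|`.
-/

set_option autoImplicit false

namespace Cfsg.Agent.H212.U3.Fisher

open scoped Classical in
/-- Vectors with constant norm `a` and constant inner products `b`, `0 ≤ b < a`, are linearly independent. -/
theorem card_le_of_gram {X Y : Type*} [Finite X] [Finite Y] (S : X → Set Y) (a b : ℕ) (hab : b < a)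
    (h1 : ∀ x, (S x).ncard = a) (h2 : ∀ x y, x ≠ y → (S x ∩ S y).ncard = b) :
    Nat.card X ≤ Nat.card Y := by
  cases nonempty_fintype X
  cases nonempty_fintype Y
  let v : X → Y → ℚ := fun x y => if y ∈ S x then 1 else 0
  have hin : ∀ x y, ∑ z, v x z * v y z = ((S x ∩ S y).ncard : ℚ) := by
    intro x y
    have e1 : ∀ z, v x z * v y z = if z ∈ S x ∩ S y then 1 else 0 := by
      intro z
      simp only [v]
      by_cases h : z ∈ S x <;> by_cases h' : z ∈ S y <;> simp [h, h']
    rw [Finset.sum_congr rfl fun z _ => e1 z, Finset.sum_boole, Set.ncard_eq_toFinset_card']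
    congr 2
    ext z
    simp
  have hli : LinearIndependent ℚ v := by
    rw [Fintype.linearIndependent_iff]
    intro c hc
    have e1 : ∀ y, ((a : ℚ) - b) * c y + b * ∑ x, c x = 0 := by
      intro y
      have e2 : ∑ z, (∑ x, c x • v x) z * v y z = 0 := by
        rw [hc]
        simp
      have e3 : ∑ z, (∑ x, c x • v x) z * v y z = ∑ x, c x * ((S x ∩ S y).ncard : ℚ) := by
        calc ∑ z, (∑ x, c x • v x) z * v y z = ∑ z, ∑ x, c x * (v x z * v y z) := by
              refine Finset.sum_congr rfl fun z _ => ?_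
              rw [Finset.sum_apply, Finset.sum_mul]
              refine Finset.sum_congr rfl fun x _ => ?_
              simp only [Pi.smul_apply, smul_eq_mul]
              ring
          _ = ∑ x, c x * ((S x ∩ S y).ncard : ℚ) := by
              rw [Finset.sum_comm]
              refine Finset.sum_congr rfl fun x _ => ?_
              rw [← Finset.mul_sum, hin]
      rw [e3] at e2
      have e4 : ∑ x, c x * ((S x ∩ S y).ncard : ℚ) = ∑ x, (c x * b + if x = y then c x * (a - b) else 0) := by
        refine Finset.sum_congr rfl fun x _ => ?_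
        by_cases hxy : x = y
        · subst hxy
          rw [Set.inter_self, h1, if_pos rfl]
          ring
        · rw [h2 x y hxy, if_neg hxy, add_zero]
      rw [e4, Finset.sum_add_distrib, Finset.sum_ite_eq' Finset.univ y, if_pos (Finset.mem_univ y),
        ← Finset.sum_mul] at e2
      linarith
    have hab' : (b : ℚ) < a := by exact_mod_cast hab
    have hb : (0 : ℚ) ≤ b := Nat.cast_nonneg b
    have e2 : (((a : ℚ) - b) + Fintype.card X * b) * ∑ x, c x = 0 := by
      have e3 : ∑ y, (((a : ℚ) - b) * c y + b * ∑ x, c x) = 0 := Finset.sum_eq_zero fun y _ => e1 y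
      rw [Finset.sum_add_distrib, ← Finset.mul_sum, Finset.sum_const, Finset.card_univ,
        nsmul_eq_mul] at e3
      linarith
    have e3 : ∑ x, c x = 0 := by
      refine (mul_eq_zero.1 e2).resolve_left (ne_of_gt ?_)
      have : (0 : ℚ) ≤ Fintype.card X * b := by positivity
      linarith
    intro y
    have e4 := e1 y
    rw [e3, mul_zero, add_zero] at e4
    exact (mul_eq_zero.1 e4).resolve_left (by linarith)
  have h := hli.fintype_card_le_finrank
  rw [Module.finrank_fintype_fun_eq_card] at h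
  rwa [Nat.card_eq_fintype_card, Nat.card_eq_fintype_card]

/-- **Fisher's inequality for actions.** -/
theorem card_le {G X Y : Type*} [Group G] [MulAction G X] [MulAction G Y] [Finite X] [Finite Y]
    (hX : MulAction.IsMultiplyPretransitive G X 2) (hY : MulAction.IsPretransitive G Y) (x₀ : X)
    (y₀ y₁ : Y) (hn : ¬ ∃ g : G, g • x₀ = x₀ ∧ g • y₀ = y₁) : Nat.card X ≤ Nat.card Y := by
  classical
  by_cases hsub : Subsingleton X
  · have h1 : Nat.card X ≤ 1 := Finite.card_le_one_iff_subsingleton.2 hsub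
    have h2 : 0 < Nat.card Y := Finite.card_pos_iff.2 ⟨y₀⟩
    omega
  rw [not_subsingleton_iff_nontrivial] at hsub
  have h2t : ∀ {a b c d : X}, a ≠ b → c ≠ d → ∃ g : G, g • a = c ∧ g • b = d :=
    fun h h' => MulAction.is_two_pretransitive_iff.1 hX h h'
  have hX1 : ∀ x y : X, ∃ g : G, g • x = y := by
    intro x y
    obtain ⟨x', hx'⟩ := exists_ne x
    obtain ⟨y', hy'⟩ := exists_ne y
    obtain ⟨g, hg, -⟩ := h2t (Ne.symm hx') (Ne.symm hy')
    exact ⟨g, hg⟩
  let S : X → Set Y := fun x => {y | ∃ g : G, g • x₀ = x ∧ g • y₀ = y}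
  have hS : ∀ (g : G) (x : X), S (g • x) = (fun y => g • y) '' S x := by
    intro g x
    ext y
    constructor
    · rintro ⟨k, hk, rfl⟩
      refine ⟨(g⁻¹ * k) • y₀, ⟨g⁻¹ * k, ?_, rfl⟩, ?_⟩
      · rw [mul_smul, hk, inv_smul_smul]
      · simp [mul_smul]
    · rintro ⟨_, ⟨k, hk, rfl⟩, rfl⟩
      exact ⟨g * k, by rw [mul_smul, hk], mul_smul _ _ _⟩
  have hcard : ∀ x, (S x).ncard = (S x₀).ncard := by
    intro x
    obtain ⟨g, rfl⟩ := hX1 x₀ x
    rw [hS, Set.ncard_image_of_injective _ (MulAction.injective g)]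
  obtain ⟨x₁, hx₁⟩ := exists_ne x₀
  have hcard2 : ∀ x y, x ≠ y → (S x ∩ S y).ncard = (S x₀ ∩ S x₁).ncard := by
    intro x y hxy
    obtain ⟨g, rfl, rfl⟩ := h2t (Ne.symm hx₁) hxy
    rw [hS, hS, ← Set.image_inter (MulAction.injective g), Set.ncard_image_of_injective _ (MulAction.injective g)]
  have hle : (S x₀ ∩ S x₁).ncard ≤ (S x₀).ncard :=
    Set.ncard_le_ncard Set.inter_subset_left (Set.toFinite _)
  refine card_le_of_gram S _ _ (lt_of_le_of_ne hle ?_) hcard hcard2
  intro heq
  have hall : ∀ x y, x ≠ y → S x ⊆ S y := by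
    intro x y hxy
    have h1 : (S x ∩ S y).ncard = (S x).ncard := by rw [hcard2 x y hxy, heq, hcard x]
    have h2 : S x ∩ S y = S x := Set.eq_of_subset_of_ncard_le Set.inter_subset_left h1.ge (Set.toFinite _)
    exact Set.inter_eq_left.1 h2
  obtain ⟨g, hg⟩ := hY.exists_smul_eq y₀ y₁
  have h3 : y₁ ∈ S (g • x₀) := ⟨g, rfl, hg⟩
  have h4 : y₁ ∈ S x₀ := by
    by_cases h5 : g • x₀ = x₀
    · rwa [h5] at h3
    · exact hall _ _ h5 h3
  exact hn h4

/-- In terms of subgroups: `B` a point stabiliser of a 2-transitive action, `H` of index less than the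
degree; then `G = H B`. -/
theorem exists_mul {G : Type*} [Group G] [Finite G] (B H : Subgroup G)
    (hX : MulAction.IsMultiplyPretransitive G (G ⧸ B) 2) (hlt : H.index < B.index) (g : G) :
    ∃ h ∈ H, ∃ b ∈ B, g = h * b := by
  by_contra hcon
  push Not at hcon
  refine absurd (card_le (Y := G ⧸ H) hX inferInstance (QuotientGroup.mk 1 : G ⧸ B)
    (QuotientGroup.mk 1 : G ⧸ H) (QuotientGroup.mk g⁻¹ : G ⧸ H) ?_) (not_le.2 hlt)
  rintro ⟨k, hk1, hk2⟩
  have h1 : k ∈ B := by
    have : (QuotientGroup.mk (k * 1) : G ⧸ B) = QuotientGroup.mk 1 := hk1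
    rw [mul_one, eq_comm, QuotientGroup.eq] at this
    simpa using this
  have h2 : k⁻¹ * g⁻¹ ∈ H := by
    have : (QuotientGroup.mk (k * 1) : G ⧸ H) = QuotientGroup.mk g⁻¹ := hk2
    rw [mul_one, QuotientGroup.eq] at this
    exact this
  refine hcon (k⁻¹ * g⁻¹)⁻¹ (H.inv_mem h2) k⁻¹ (B.inv_mem h1) ?_
  group

end Cfsg.Agent.H212.U3.Fisher
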