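import Mathlib
import Cfsg.Agent.H212.U3.Model

/-!
# Subgroups of `SUG σ` transitive on the isotropic points

For `H ≤ SUG σ`: `RH H` (the unipotent part, in `HG σ`), `AR H` (its first coordinates), `ZR H` (its central
part), `Lam H` (the values of the character `chi` on `H ∩ B`).
-/

set_option autoImplicit false

namespace Cfsg.Agent.H212.U3.Sub

open Matrix Subgroup MulAction
open Cfsg.Agent
open Cfsg.Agent.LieRecognition.RankOneAbstract (Data)
open Cfsg.Agent.UThreeGen.MatGroup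
open Cfsg.Agent.H212.U3.Model
open Cfsg.Agent.HKS.EndU (tor tmat tor_val tor_mem act tor_emb ci wel_tor exists_tor tor_mem_center
  card_anti comm_of_a sne)

/-- A free action of a finite group: the order divides the cardinality. -/
theorem free_dvd {M S : Type*} [Group M] [MulAction M S] [Finite M] [Finite S]
    (h : ∀ (m : M) (x : S), m • x = x → m = 1) : Nat.card M ∣ Nat.card S := by
  classical
  haveI : Finite (Quotient (orbitRel M S)) := Quotient.finite _
  letI : Fintype (Quotient (orbitRel M S)) := Fintype.ofFinite _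
  rw [Nat.card_congr (MulAction.selfEquivSigmaOrbitsQuotientStabilizer M S), Nat.card_sigma]
  refine Finset.dvd_sum fun x _ => ?_
  have h1 : MulAction.stabilizer M x.out = ⊥ := by
    rw [eq_bot_iff]
    intro m hm
    exact h m _ hm
  rw [h1]
  exact (Nat.card_congr (QuotientGroup.quotientBot (G := M)).toEquiv).symm ▸ dvd_rfl

/-- A group of units acting on an additive subgroup: the order divides the order of the subgroup minus
one. -/
theorem units_dvd {F : Type*} [Field F] [Finite F] (M : Subgroup Fˣ) (A : AddSubgroup F)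
    (h : ∀ m ∈ M, ∀ a ∈ A, (m : F) * a ∈ A) : Nat.card M ∣ Nat.card A - 1 := by
  classical
  let S := {a : A // a ≠ 0}
  let _ : MulAction M S :=
    { smul := fun m a => ⟨⟨(m : Fˣ) * a.1.1, h m.1 m.2 _ a.1.2⟩, fun h0 => a.2 (Subtype.ext (by
        have h1 : ((m : Fˣ) : F) * a.1.1 = 0 := congrArg Subtype.val h0
        exact (mul_eq_zero.1 h1).resolve_left (m : Fˣ).ne_zero))⟩
      one_smul := fun a => by
        apply Subtype.ext
        apply Subtype.ext
        change ((1 : Fˣ) : F) * a.1.1 = a.1.1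
        simp
      mul_smul := fun m n a => by
        apply Subtype.ext
        apply Subtype.ext
        change (((m : Fˣ) * (n : Fˣ) : Fˣ) : F) * a.1.1 = (m : Fˣ) * ((n : Fˣ) * a.1.1)
        simp [mul_assoc] }
  have h1 : Nat.card M ∣ Nat.card S := by
    refine free_dvd fun m a hma => ?_
    have h2 : ((m : Fˣ) : F) * a.1.1 = a.1.1 := congrArg (fun s : S => s.1.1) hma
    have h3 : a.1.1 ≠ 0 := fun h0 => a.2 (Subtype.ext h0)
    have h4 : ((m : Fˣ) : F) = 1 := mul_right_cancel₀ h3 (by rw [h2, one_mul])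
    exact Subtype.ext (Units.ext h4)
  have h2 : Nat.card S = Nat.card A - 1 := by
    cases nonempty_fintype A
    rw [Nat.card_eq_fintype_card, Nat.card_eq_fintype_card]
    exact Fintype.card_subtype_compl (fun a : A => a = 0) |>.trans (by simp)
  rwa [h2] at h1

section Defs

variable {F : Type*} [Field F] {σ : F →+* F} [hσ : Fact (∀ x, σ (σ x) = x)]

/-- unipotent part -/
def RH (H : Subgroup (SUG σ)) : Subgroup (HG σ) := H.comap (emb σ)

theorem mem_RH {H : Subgroup (SUG σ)} {x : HG σ} : x ∈ RH H ↔ emb σ x ∈ H := Iff.rfl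

/-- first coordinates of the unipotent part -/
def AR (H : Subgroup (SUG σ)) : AddSubgroup F where
  carrier := {a | ∃ x ∈ RH H, x.a = a}
  zero_mem' := ⟨1, one_mem _, rfl⟩
  add_mem' := by
    rintro _ _ ⟨x, hx, rfl⟩ ⟨y, hy, rfl⟩
    exact ⟨x * y, mul_mem hx hy, rfl⟩
  neg_mem' := by
    rintro _ ⟨x, hx, rfl⟩
    exact ⟨x⁻¹, inv_mem hx, rfl⟩

/-- central part of the unipotent part -/
def ZR (H : Subgroup (SUG σ)) : AddSubgroup F where
  carrier := {b | ∃ x ∈ RH H, x.a = 0 ∧ x.b = b}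
  zero_mem' := ⟨1, one_mem _, rfl, rfl⟩
  add_mem' := by
    rintro _ _ ⟨x, hx, hx0, rfl⟩ ⟨y, hy, hy0, rfl⟩
    refine ⟨x * y, mul_mem hx hy, ?_, ?_⟩
    · rw [mul_a, hx0, hy0, add_zero]
    · rw [mul_b, hx0, zero_mul, add_zero]
  neg_mem' := by
    rintro _ ⟨x, hx, hx0, rfl⟩
    refine ⟨x⁻¹, inv_mem hx, ?_, ?_⟩
    · rw [inv_a, hx0, neg_zero]
    · have h := x.h
      rw [hx0, zero_mul] at h
      rw [inv_b]
      linear_combination h

theorem mem_AR {H : Subgroup (SUG σ)} {a : F} : a ∈ AR H ↔ ∃ x ∈ RH H, x.a = a := Iff.rfl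

theorem mem_ZR {H : Subgroup (SUG σ)} {b : F} : b ∈ ZR H ↔ ∃ x ∈ RH H, x.a = 0 ∧ x.b = b := Iff.rfl

/-- values of the character -/
def Lam (H : Subgroup (SUG σ)) : Subgroup Fˣ := (H.subgroupOf (borel σ)).map (chi σ)

omit hσ in
theorem mem_Lam {H : Subgroup (SUG σ)} {l : Fˣ} :
    l ∈ Lam H ↔ ∃ g, ∃ hg : g ∈ borel σ, g ∈ H ∧ chi σ ⟨g, hg⟩ = l := by
  constructor
  · rintro ⟨g, hg, rfl⟩
    exact ⟨g.1, g.2, hg, rfl⟩
  · rintro ⟨g, hg, hgH, rfl⟩
    exact ⟨⟨g, hg⟩, hgH, rfl⟩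

/-- `l ↦ l² / σ l` -/
def nu (σ : F →+* F) : Fˣ →* Fˣ where
  toFun l := l ^ 2 * (Units.map (σ : F →* F) l)⁻¹
  map_one' := by simp
  map_mul' := by
    intro x y
    rw [map_mul, mul_pow, mul_inv]
    exact mul_mul_mul_comm _ _ _ _

/-- `l ↦ l * σ l` -/
def nrm (σ : F →+* F) : Fˣ →* Fˣ where
  toFun l := l * Units.map (σ : F →* F) l
  map_one' := by simp
  map_mul' := by
    intro x y
    rw [map_mul]
    exact mul_mul_mul_comm _ _ _ _

omit hσ in
theorem nu_val (l : Fˣ) : ((nu σ l : Fˣ) : F) = (l : F) ^ 2 / σ (l : F) := by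
  change (((l ^ 2 * (Units.map (σ : F →* F) l)⁻¹ : Fˣ)) : F) = _
  rw [Units.val_mul, Units.val_pow_eq_pow_val, Units.val_inv_eq_inv_val, div_eq_mul_inv]
  rfl

omit hσ in
theorem nrm_val (l : Fˣ) : ((nrm σ l : Fˣ) : F) = (l : F) * σ (l : F) := rfl

theorem nu_mul_mem {H : Subgroup (SUG σ)} {l : Fˣ} (hl : l ∈ Lam H) {a : F} (ha : a ∈ AR H) :
    (l : F) ^ 2 / σ (l : F) * a ∈ AR H := by
  obtain ⟨g, hg, hgH, rfl⟩ := mem_Lam.1 hl
  obtain ⟨x, hx, rfl⟩ := ha
  obtain ⟨y, hy, hya, -⟩ := conj_emb hg x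
  refine ⟨y, ?_, ?_⟩
  · rw [mem_RH, ← hy]
    exact H.mul_mem (H.mul_mem hgH hx) (H.inv_mem hgH)
  · rw [hya]
    rfl

theorem nrm_mul_mem {H : Subgroup (SUG σ)} {l : Fˣ} (hl : l ∈ Lam H) {b : F} (hb : b ∈ ZR H) :
    (l : F) * σ (l : F) * b ∈ ZR H := by
  obtain ⟨g, hg, hgH, rfl⟩ := mem_Lam.1 hl
  obtain ⟨x, hx, hx0, rfl⟩ := hb
  obtain ⟨y, hy, hya, hyb⟩ := conj_emb hg x
  refine ⟨y, ?_, ?_, ?_⟩
  · rw [mem_RH, ← hy]
    exact H.mul_mem (H.mul_mem hgH hx) (H.inv_mem hgH)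
  · rw [hya, hx0, mul_zero]
  · rw [hyb hx0]
    rfl

/-- commutators -/
theorem comm_mem_ZR {H : Subgroup (SUG σ)} {a c : F} (ha : a ∈ AR H) (hc : c ∈ AR H) :
    a * σ c - c * σ a ∈ ZR H := by
  obtain ⟨x, hx, rfl⟩ := ha
  obtain ⟨y, hy, rfl⟩ := hc
  refine ⟨x * y * (y * x)⁻¹, mul_mem (mul_mem hx hy) (inv_mem (mul_mem hy hx)), ?_, ?_⟩
  · simp only [mul_a, inv_a]
    ring
  · have h1 := x.h
    have h2 := y.h
    simp only [mul_b, mul_a, inv_a, inv_b, map_add, map_neg, map_mul, sig]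
    linear_combination h1 + h2

/-- squares in characteristic two -/
theorem sq_mem_ZR (h2 : (2 : F) = 0) {H : Subgroup (SUG σ)} {a : F} (ha : a ∈ AR H) :
    a * σ a ∈ ZR H := by
  obtain ⟨x, hx, rfl⟩ := ha
  refine ⟨x * x, mul_mem hx hx, ?_, ?_⟩
  · rw [mul_a]
    linear_combination x.a * h2
  · rw [mul_b]
    linear_combination x.b * h2

theorem ZR_trace {H : Subgroup (SUG σ)} {b : F} (hb : b ∈ ZR H) : b + σ b = 0 := by
  obtain ⟨x, hx, hx0, rfl⟩ := hb
  rw [x.h, hx0, zero_mul]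

end Defs

section Cards

variable {F : Type*} [Field F] {σ : F →+* F} [hσ : Fact (∀ x, σ (σ x) = x)]

/-- `|RH| = |AR| |ZR|` -/
theorem card_RH (H : Subgroup (SUG σ)) : Nat.card (RH H) = Nat.card (AR H) * Nat.card (ZR H) := by
  let f : RH H →* Multiplicative F :=
    { toFun := fun x => Multiplicative.ofAdd x.1.a
      map_one' := rfl
      map_mul' := fun x y => rfl }
  have h1 := f.ker.card_mul_index
  rw [Subgroup.index_ker] at h1
  have h2 : Nat.card f.range = Nat.card (AR H) := by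
    refine Nat.card_congr ⟨fun y => ⟨Multiplicative.toAdd y.1, ?_⟩,
      fun a => ⟨Multiplicative.ofAdd a.1, ?_⟩, fun y => rfl, fun a => rfl⟩
    · obtain ⟨x, hx⟩ := y.2
      exact ⟨x.1, x.2, congrArg Multiplicative.toAdd hx⟩
    · obtain ⟨x, hx, hxa⟩ := a.2
      exact ⟨⟨x, hx⟩, congrArg Multiplicative.ofAdd hxa⟩
  have h3 : Nat.card f.ker = Nat.card (ZR H) := by
    refine Nat.card_congr ⟨fun x => ⟨x.1.1.b, x.1.1, x.1.2, congrArg Multiplicative.toAdd x.2, rfl⟩,
      fun b => ⟨⟨⟨0, b.1, ?_⟩, ?_⟩, ?_⟩, ?_, ?_⟩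
    · rw [ZR_trace b.2, zero_mul]
    · obtain ⟨x, hx, hx0, hxb⟩ := b.2
      have : x = ⟨0, b.1, by rw [ZR_trace b.2, zero_mul]⟩ := by
        ext
        · exact hx0
        · exact hxb
      rw [← this]
      exact hx
    · rfl
    · intro x
      apply Subtype.ext
      apply Subtype.ext
      ext
      · exact (congrArg Multiplicative.toAdd x.2).symm
      · rfl
    · intro b
      rfl
  rw [← h1, h2, h3, mul_comm]

/-- `|H ∩ B| = |RH| |Lam|` -/
theorem card_inf (H : Subgroup (SUG σ)) :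
    Nat.card (H.subgroupOf (borel σ)) = Nat.card (RH H) * Nat.card (Lam H) := by
  let f : H.subgroupOf (borel σ) →* Fˣ := (chi σ).comp (H.subgroupOf (borel σ)).subtype
  have h1 := f.ker.card_mul_index
  rw [Subgroup.index_ker] at h1
  have h2 : f.range = Lam H := by
    rw [MonoidHom.range_comp, Subgroup.range_subtype]
    rfl
  have h3 : Nat.card f.ker = Nat.card (RH H) := by
    symm
    refine Nat.card_congr (Equiv.ofBijective (fun x => ⟨⟨⟨emb σ x.1, emb_mem _⟩, x.2⟩, ?_⟩) ⟨?_, ?_⟩)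
    · exact chi_emb x.1
    · intro x y h
      have h4 : emb σ x.1 = emb σ y.1 := congrArg (fun k : f.ker => k.1.1.1) h
      exact Subtype.ext (emb_injective h4)
    · intro k
      obtain ⟨x, hx⟩ := chi_eq_one.1 (show chi σ k.1.1 = 1 from k.2)
      refine ⟨⟨x, ?_⟩, ?_⟩
      · rw [mem_RH, hx]
        exact k.1.2
      · apply Subtype.ext
        apply Subtype.ext
        apply Subtype.ext
        exact hx
  rw [← h1, h2, h3]

end Cards

section Index

/-- if `G = H B` then `|G : H| |H ∩ B| = |B|` -/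
theorem index_mul {G : Type*} [Group G] [Finite G] (B H : Subgroup G)
    (h : ∀ g : G, ∃ k ∈ H, ∃ b ∈ B, g = k * b) : H.index * Nat.card (H.subgroupOf B) = Nat.card B := by
  have h1 : MulAction.stabilizer B (QuotientGroup.mk 1 : G ⧸ H) = H.subgroupOf B := by
    ext b
    rw [MulAction.mem_stabilizer_iff, mem_subgroupOf]
    change (QuotientGroup.mk ((b : G) * 1) : G ⧸ H) = QuotientGroup.mk 1 ↔ _
    rw [mul_one, eq_comm, QuotientGroup.eq, inv_one, one_mul]
  have h2 : MulAction.orbit B (QuotientGroup.mk 1 : G ⧸ H) = Set.univ := by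
    rw [Set.eq_univ_iff_forall]
    intro x
    induction x using QuotientGroup.induction_on with
    | H g =>
      obtain ⟨k, hk, b, hb, he⟩ := h g⁻¹
      refine ⟨⟨b⁻¹, B.inv_mem hb⟩, ?_⟩
      change (QuotientGroup.mk (b⁻¹ * 1) : G ⧸ H) = QuotientGroup.mk g
      rw [mul_one, QuotientGroup.eq, inv_inv]
      have : b * g = k⁻¹ := by
        have h3 : k⁻¹ * g⁻¹ = b := by rw [he, inv_mul_cancel_left]
        rw [← h3]
        group
      rw [this]
      exact H.inv_mem hk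
  have h3 := MulAction.index_stabilizer B (QuotientGroup.mk 1 : G ⧸ H)
  rw [h1, h2, Set.ncard_univ] at h3
  have h4 := (H.subgroupOf B).card_mul_index
  rw [h3] at h4
  rw [Subgroup.index, mul_comm]
  exact h4

end Index

end Cfsg.Agent.H212.U3.Sub
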