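import Mathlib
import Cfsg.Agent.H212.U3.Sub

/-!
# Numerical facts on subgroups of `SUG σ`
-/

set_option autoImplicit false

namespace Cfsg.Agent.H212.U3.Num

open Matrix Subgroup MulAction
open Cfsg.Agent
open Cfsg.Agent.LieRecognition.RankOneAbstract (Data)
open Cfsg.Agent.UThreeGen.MatGroup
open Cfsg.Agent.H212.U3.Model Cfsg.Agent.H212.U3.Sub
open Cfsg.Agent.HKS.EndU (tor tmat tor_val tor_mem act tor_emb ci wel_tor exists_tor tor_mem_center
  card_anti comm_of_a sne)

/-- orders of images and kernels -/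
theorem card_map_mul {G K : Type*} [Group G] [Group K] (f : G →* K) (M : Subgroup G) :
    Nat.card (M.map f) * Nat.card (M ⊓ f.ker : Subgroup G) = Nat.card M := by
  let g : M →* K := f.comp M.subtype
  have h1 := g.ker.card_mul_index
  rw [Subgroup.index_ker] at h1
  have h2 : g.range = M.map f := by rw [MonoidHom.range_comp, Subgroup.range_subtype]
  have h3 : Nat.card g.ker = Nat.card (M ⊓ f.ker : Subgroup G) :=
    Nat.card_congr ⟨fun x => ⟨x.1.1, x.1.2, x.2⟩, fun x => ⟨⟨x.1, x.2.1⟩, x.2.2⟩, fun _ => rfl,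
      fun _ => rfl⟩
  rw [h2, h3, mul_comm] at h1
  exact h1

section

variable {F : Type*} [Field F] [Fintype F] {q : ℕ} {σ : F →+* F} [hσ : Fact (∀ x, σ (σ x) = x)]

/-- trace-zero elements -/
def anti (σ : F →+* F) : AddSubgroup F where
  carrier := {b | b + σ b = 0}
  zero_mem' := by simp
  add_mem' := by
    intro a b ha hb
    have ha' : a + σ a = 0 := ha
    have hb' : b + σ b = 0 := hb
    change (a + b) + σ (a + b) = 0
    rw [map_add]
    linear_combination ha' + hb'
  neg_mem' := by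
    intro a ha
    have ha' : a + σ a = 0 := ha
    change -a + σ (-a) = 0
    rw [map_neg]
    linear_combination -ha'

/-- fixed elements -/
def fixd (σ : F →+* F) : AddSubgroup F where
  carrier := {b | σ b = b}
  zero_mem' := by simp
  add_mem' := by
    intro a b ha hb
    have ha' : σ a = a := ha
    have hb' : σ b = b := hb
    change σ (a + b) = a + b
    rw [map_add, ha', hb']
  neg_mem' := by
    intro a ha
    have ha' : σ a = a := ha
    change σ (-a) = -a
    rw [map_neg, ha']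

omit hσ in
theorem card_anti' (hF : Fintype.card F = q ^ 2) (hs : ∀ x, σ x = x ^ q) :
    Nat.card (anti σ) = q := card_anti hF hs

omit hσ in
theorem card_fixd (hF : Fintype.card F = q ^ 2) (hs : ∀ x, σ x = x ^ q) :
    Nat.card (fixd σ) = q := by
  rw [← LieClassical.HermBasic.card_fixed hF]
  refine Nat.card_congr (Equiv.subtypeEquivRight fun x => ?_)
  rw [← hs]
  rfl

omit [Fintype F] in
theorem ZR_le (H : Subgroup (SUG σ)) : ZR H ≤ anti σ := fun _ hb => ZR_trace hb

theorem card_ZR_dvd (hF : Fintype.card F = q ^ 2) (hs : ∀ x, σ x = x ^ q) (H : Subgroup (SUG σ)) :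
    Nat.card (ZR H) ∣ q := by
  have h1 := AddSubgroup.card_dvd_of_le (ZR_le H)
  rwa [card_anti' hF hs] at h1

omit hσ in
theorem card_ker_nrm (hF : Fintype.card F = q ^ 2) (hs : ∀ x, σ x = x ^ q) :
    Nat.card (nrm σ).ker = q + 1 := by
  rw [← LieClassical.HermBasic.card_norm_eq_one hF]
  refine Nat.card_congr ⟨fun x => ⟨(x.1 : F), ?_⟩, fun x => ⟨Units.mk0 x.1 ?_, ?_⟩, ?_, ?_⟩
  · have h1 : ((nrm σ x.1 : Fˣ) : F) = 1 := by rw [x.2, Units.val_one]
    rw [nrm_val, hs] at h1
    exact h1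
  · intro h0
    have := x.2
    rw [h0, zero_mul] at this
    exact zero_ne_one this
  · apply Units.ext
    rw [nrm_val, hs]
    exact x.2
  · intro x
    exact Subtype.ext (Units.ext rfl)
  · intro x
    rfl

omit hσ in
theorem card_range_nrm (hF : Fintype.card F = q ^ 2) (hs : ∀ x, σ x = x ^ q) :
    Nat.card (nrm σ).range = q - 1 := by
  have h1 := (nrm σ).ker.card_mul_index
  rw [Subgroup.index_ker, card_ker_nrm hF hs, card_units hF] at h1
  have h2 : q ^ 2 - 1 = (q + 1) * (q - 1) := by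
    have := Nat.sq_sub_sq q 1
    rw [one_pow] at this
    exact this
  rw [h2] at h1
  exact Nat.eq_of_mul_eq_mul_left (by omega) h1

/-- the norm part of the character values -/
theorem nrm_facts (hF : Fintype.card F = q ^ 2) (hs : ∀ x, σ x = x ^ q) (H : Subgroup (SUG σ)) :
    ∃ k, k ∣ Nat.card (ZR H) - 1 ∧ k ∣ q - 1 ∧ Nat.card (Lam H) ∣ k * (q + 1) := by
  refine ⟨Nat.card ((Lam H).map (nrm σ)), ?_, ?_, ?_⟩
  · apply units_dvd
    rintro _ ⟨l, hl, rfl⟩ b hb
    rw [nrm_val]
    exact nrm_mul_mem hl hb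
  · rw [← card_range_nrm hF hs]
    apply Subgroup.card_dvd_of_le
    rintro _ ⟨l, hl, rfl⟩
    exact ⟨l, rfl⟩
  · rw [← card_map_mul (nrm σ) (Lam H)]
    apply mul_dvd_mul_left
    rw [← card_ker_nrm hF hs]
    exact Subgroup.card_dvd_of_le inf_le_right

omit [Fintype F] in
/-- the kernel of `nu` -/
theorem pow_three_of_nu {l : Fˣ} (h : nu σ l = 1) : l ^ 3 = 1 := by
  have h1 : ((nu σ l : Fˣ) : F) = 1 := by rw [h, Units.val_one]
  rw [nu_val, div_eq_one_iff_eq (sne l)] at h1
  have h2 := congrArg σ h1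
  rw [map_pow, sig, ← h1] at h2
  apply Units.ext
  rw [Units.val_pow_eq_pow_val, Units.val_one]
  have h3 : (l : F) * ((l : F) ^ 3 - 1) = 0 := by linear_combination h2
  exact sub_eq_zero.1 ((mul_eq_zero.1 h3).resolve_left l.ne_zero)

theorem card_cube_dvd (M : Subgroup Fˣ) (h : ∀ l ∈ M, l ^ 3 = 1) : Nat.card M = 1 ∨ Nat.card M = 3 := by
  classical
  have : IsCyclic M := Subgroup.isCyclic M
  obtain ⟨g, hg⟩ := IsCyclic.exists_generator (α := M)
  have h1 : orderOf g = Nat.card M := orderOf_eq_card_of_forall_mem_zpowers hg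
  have h2 : orderOf g ∣ 3 := orderOf_dvd_of_pow_eq_one (Subtype.ext (h g.1 g.2))
  rw [h1] at h2
  exact (Nat.dvd_prime Nat.prime_three).1 h2

/-- the `nu` part of the character values -/
theorem nu_facts (H : Subgroup (SUG σ)) :
    ∃ k, k ∣ Nat.card (AR H) - 1 ∧ (Nat.card (Lam H) = k ∨ Nat.card (Lam H) = 3 * k) ∧
      k = Nat.card ((Lam H).map (nu σ)) := by
  refine ⟨Nat.card ((Lam H).map (nu σ)), ?_, ?_, rfl⟩
  · apply units_dvd
    rintro _ ⟨l, hl, rfl⟩ b hb
    rw [nu_val]
    exact nu_mul_mem hl hb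
  · have h1 := card_map_mul (nu σ) (Lam H)
    rcases card_cube_dvd (Lam H ⊓ (nu σ).ker) (fun l hl => pow_three_of_nu hl.2) with h2 | h2
    · left
      rw [← h1, h2, mul_one]
    · right
      rw [← h1, h2, mul_comm]

omit [Fintype F] in
/-- `nu` is injective unless `q ≡ 2 mod 3` -/
theorem nu_injective (hs : ∀ x, σ x = x ^ q) (hq : q % 3 ≠ 2) : Function.Injective (nu σ) := by
  rw [injective_iff_map_eq_one]
  intro l hl
  have h3 := pow_three_of_nu hl
  have h1 : ((nu σ l : Fˣ) : F) = 1 := by rw [hl, Units.val_one]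
  rw [nu_val, div_eq_one_iff_eq (sne l), hs] at h1
  have h4 : l ^ 2 = l ^ q := Units.ext (by simpa using h1)
  have h5 : l ^ q = l ^ (q % 3) := by
    conv_lhs => rw [← Nat.div_add_mod q 3, pow_add, pow_mul, h3, one_pow, one_mul]
  rw [h5] at h4
  have h6 : q % 3 = 0 ∨ q % 3 = 1 := by omega
  rcases h6 with h6 | h6 <;> rw [h6] at h4
  · rw [pow_zero] at h4
    have : l ^ 3 = l * l ^ 2 := by group
    rw [h3, h4, mul_one] at this
    exact this.symm
  · rw [pow_one, sq] at h4
    exact mul_left_cancel (h4.trans (mul_one l).symm)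

/-- the unipotent part is small if it meets the centre trivially -/
theorem AR_facts (hF : Fintype.card F = q ^ 2) (hs : ∀ x, σ x = x ^ q) (H : Subgroup (SUG σ))
    (hZ : Nat.card (ZR H) = 1) (hA : Nat.card (AR H) ≠ 1) :
    Nat.card (AR H) ∣ q ∧ Nat.card ((Lam H).map (nu σ)) ∣ q - 1 := by
  have hz : ∀ b ∈ ZR H, b = 0 := by
    intro b hb
    have h1 := AddSubgroup.eq_bot_of_card_eq (ZR H) hZ
    rw [h1] at hb
    exact hb
  obtain ⟨a, ha, ha0⟩ : ∃ a ∈ AR H, a ≠ 0 := by
    by_contra hcon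
    push Not at hcon
    apply hA
    rw [(AddSubgroup.eq_bot_iff_forall _).2 hcon, AddSubgroup.card_bot]
  have hfix : ∀ c ∈ AR H, σ (c / a) = c / a := by
    intro c hc
    have h1 := hz _ (comm_mem_ZR ha hc)
    have h2 : σ a ≠ 0 := (map_ne_zero σ).2 ha0
    rw [map_div₀, div_eq_div_iff h2 ha0]
    linear_combination h1
  constructor
  · rw [← card_fixd hF hs]
    let f : AR H →+ fixd σ :=
      { toFun := fun c => ⟨c.1 / a, hfix c.1 c.2⟩
        map_zero' := Subtype.ext (zero_div a)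
        map_add' := fun x y => Subtype.ext (add_div _ _ _) }
    refine AddSubgroup.card_dvd_of_injective f ?_
    intro x y h
    have h1 : x.1 / a = y.1 / a := congrArg Subtype.val h
    exact Subtype.ext ((div_left_inj' ha0).1 h1)
  · have h1 : Nat.card ((Lam H).map (nu σ)) ∣ Nat.card (fixd σ) - 1 := by
      apply units_dvd
      rintro _ ⟨l, hl, rfl⟩ c hc
      rw [nu_val]
      have h2 := hfix _ (nu_mul_mem hl ha)
      rw [mul_div_cancel_right₀ _ ha0] at h2
      have hc' : σ c = c := hc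
      change σ _ = _
      rw [map_mul, h2, hc']
    rwa [card_fixd hF hs] at h1

/-- if the full centre of the unipotent group is contained in `H` and `G = H B` then `H = G` -/
theorem eq_top_of_ZR (hF : Fintype.card F = q ^ 2) (hs : ∀ x, σ x = x ^ q)
    (hsimp : IsSimpleGroup (Cfsg.PSU 3 F q)) (H : Subgroup (SUG σ))
    (hcen : Subgroup.center (SUG σ) ≤ H) (hHB : ∀ g : SUG σ, ∃ h ∈ H, ∃ b ∈ borel σ, g = h * b)
    (hZ : Nat.card (ZR H) = q) : H = ⊤ := by
  have hq : 1 < q := LieClassical.HermBasic.two_le hF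
  have h1 : ZR H = anti σ :=
    AddSubgroup.eq_of_le_of_card_ge (ZR_le H) (by rw [hZ, card_anti' hF hs])
  have h2 : ∀ x : HG σ, x.a = 0 → emb σ x ∈ H := by
    intro x hx
    have h3 : x.b ∈ ZR H := by
      rw [h1]
      have := x.h
      rw [hx, zero_mul] at this
      exact this
    obtain ⟨y, hy, hy0, hyb⟩ := h3
    have : y = x := by
      ext
      · rw [hx, hy0]
      · exact hyb
    rw [← this]
    exact hy
  have h3 : ∀ (g : SUG σ) (x : HG σ), x.a = 0 → g * emb σ x * g⁻¹ ∈ H := by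
    intro g x hx
    obtain ⟨h, hh, b, hb, rfl⟩ := hHB g
    obtain ⟨y, hy, hya, -⟩ := conj_emb hb x
    have hy0 : y.a = 0 := by rw [hya, hx, mul_zero]
    have : h * b * emb σ x * (h * b)⁻¹ = h * emb σ y * h⁻¹ := by
      rw [← hy]; group
    rw [this]
    exact H.mul_mem (H.mul_mem hh (h2 y hy0)) (H.inv_mem hh)
  obtain ⟨π, hπ, hker⟩ := exists_pi (σ := σ) hq hs (by rw [Nat.card_eq_fintype_card, hF])
  let N : Subgroup (SUG σ) := Subgroup.normalClosure {g | ∃ x : HG σ, x.a = 0 ∧ emb σ x = g}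
  have hNH : N ≤ H := by
    refine (Subgroup.closure_le H).2 ?_
    intro g hg
    obtain ⟨a, ⟨x, hx, rfl⟩, hc⟩ := Group.mem_conjugatesOfSet_iff.1 hg
    obtain ⟨c, hc⟩ := isConj_iff.1 hc
    rw [← hc]
    exact h3 c x hx
  have hN : (N.map π).Normal := Subgroup.Normal.map inferInstance π hπ
  rcases hN.eq_bot_or_eq_top with h4 | h4
  · exfalso
    obtain ⟨d, hd0, hd⟩ := LieClassical.HermBasic.exists_trace_zero_ne hF
    rw [← hs] at hd
    let x : HG σ := ⟨0, d, by rw [hd, zero_mul]⟩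
    have h5 : emb σ x ∈ N := Subgroup.subset_normalClosure ⟨x, rfl, rfl⟩
    have h6 : π (emb σ x) = 1 := by
      have : π (emb σ x) ∈ N.map π := ⟨_, h5, rfl⟩
      rw [h4] at this
      exact this
    have h7 := eq_one_of_mem_center ((hker _).1 h6)
    exact hd0 (congrArg HG.b h7)
  · rw [eq_top_iff]
    intro g _
    have h5 : π g ∈ N.map π := by rw [h4]; trivial
    obtain ⟨n, hn, hng⟩ := h5
    have h6 : n⁻¹ * g ∈ H := by
      apply hcen
      rw [← hker, map_mul, map_inv, hng, inv_mul_cancel]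
    have h7 := H.mul_mem (hNH hn) h6
    rwa [mul_inv_cancel_left] at h7

end

end Cfsg.Agent.H212.U3.Num
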