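import Mathlib
import Cfsg.Agent.H212.U3.Num
import Cfsg.Agent.S0283
import Cfsg.Agent.LieClassical.FieldTransfer
import Cfsg.Agent.SporStruct.U35Iso

/-!
# The minimal index of `PSU₃(5)`
-/

set_option autoImplicit false

namespace Cfsg.Agent.H212.U3.Five

open Subgroup MulAction
open Cfsg.Agent
open Cfsg.Agent.UThreeGen.MatGroup
open Cfsg.Agent.H212.U3.Model Cfsg.Agent.H212.U3.Sub Cfsg.Agent.H212.U3.Num

/-- reduction to `SUG σ` -/
theorem lift {F : Type*} [Field F] [Fintype F] {q : ℕ} (hF : Fintype.card F = q ^ 2) {n : ℕ}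
    (h : ∀ (σ : F →+* F) [Fact (∀ x, σ (σ x) = x)], (∀ x, σ x = x ^ q) →
      ∀ H : Subgroup (SUG σ), Subgroup.center (SUG σ) ≤ H → H ≠ ⊤ → n ≤ H.index)
    (H : Subgroup (Cfsg.PSU 3 F q)) (hH : H ≠ ⊤) : n ≤ H.index := by
  let σ : F →+* F := (LieClassical.HermBasic.conj hF : F →+* F)
  have hs : ∀ x, σ x = x ^ q := fun x => rfl
  have : Fact (∀ x, σ (σ x) = x) := ⟨fun x => LieClassical.HermBasic.pow_q_pow_q hF x⟩
  obtain ⟨π, hπ, hker⟩ := exists_pi (σ := σ) (LieClassical.HermBasic.two_le hF) hs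
    (by rw [Nat.card_eq_fintype_card, hF])
  rw [← Subgroup.index_comap_of_surjective H hπ]
  refine h σ hs _ ?_ ?_
  · intro g hg
    rw [mem_comap, (hker g).2 hg]
    exact one_mem _
  · intro htop
    apply hH
    rw [eq_top_iff]
    intro x _
    obtain ⟨g, rfl⟩ := hπ x
    have : g ∈ H.comap π := by rw [htop]; trivial
    exact this

/-- numbers of a subgroup of small index -/
theorem setup {F : Type*} [Field F] [Fintype F] {q : ℕ} (hF : Fintype.card F = q ^ 2)
    {σ : F →+* F} [hσ : Fact (∀ x, σ (σ x) = x)] (hs : ∀ x, σ x = x ^ q) (H : Subgroup (SUG σ))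
    (hlt : H.index < q ^ 3 + 1) : (∀ g : SUG σ, ∃ h ∈ H, ∃ b ∈ borel σ, g = h * b) ∧
      H.index * (Nat.card (AR H) * Nat.card (ZR H) * Nat.card (Lam H)) = q ^ 3 * (q ^ 2 - 1) := by
  have h1 : ∀ g : SUG σ, ∃ h ∈ H, ∃ b ∈ borel σ, g = h * b :=
    Fisher.exists_mul (borel σ) H data_SUG.two_pretransitive (by rw [index_borel hF hs]; exact hlt)
  refine ⟨h1, ?_⟩
  rw [← card_RH, ← card_inf, index_mul _ _ h1, card_borel hF hs]

theorem bound {F : Type*} [Field F] [Fintype F] (hF : Fintype.card F = 5 ^ 2)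
    (σ : F →+* F) [hσ : Fact (∀ x, σ (σ x) = x)] (hs : ∀ x, σ x = x ^ 5)
    (H : Subgroup (SUG σ)) (hcen : Subgroup.center (SUG σ) ≤ H) (hH : H ≠ ⊤) : 50 ≤ H.index := by
  by_contra hlt
  rw [not_le] at hlt
  obtain ⟨hHB, hn⟩ := setup hF hs H (by norm_num; omega)
  have hz := card_ZR_dvd hF hs H
  have hsimp : IsSimpleGroup (Cfsg.PSU 3 F 5) := S0283.result hF 3 le_rfl (by norm_num)
  rcases (Nat.dvd_prime Nat.prime_five).1 hz with hz | hz
  · by_cases hA : Nat.card (AR H) = 1
    · have h1 : Nat.card (Lam H) ∣ 24 := by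
        have := Subgroup.card_subgroup_dvd_card (Lam H)
        rw [card_units hF] at this
        norm_num at this
        exact this
      have h2 := Nat.le_of_dvd (by norm_num) h1
      rw [hA, hz] at hn
      norm_num at hn
      nlinarith
    · obtain ⟨h1, h2⟩ := AR_facts hF hs H hz hA
      rcases (Nat.dvd_prime Nat.prime_five).1 h1 with h1 | h1
      · exact hA h1
      · obtain ⟨k, hk, hL, -⟩ := nu_facts H
        rw [h1] at hk
        have hk4 : k ≤ 4 := Nat.le_of_dvd (by norm_num) hk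
        rw [h1, hz] at hn
        norm_num at hn
        have : Nat.card (Lam H) ≤ 12 := by omega
        nlinarith
  · exact hH (eq_top_of_ZR hF hs hsimp H hcen hHB hz)

/-- a subgroup of index 50 -/
theorem exists_index {F : Type*} [Field F] [Fintype F] (hF : Fintype.card F = 25) :
    ∃ H : Subgroup (Cfsg.PSU 3 F 5), H.index = 50 := by
  have : Fact (Nat.Prime 5) := ⟨Nat.prime_five⟩
  let K := GaloisField 5 2
  let _ : Fintype K := Fintype.ofFinite _
  have hK : Fintype.card K = 25 := by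
    rw [← Nat.card_eq_fintype_card]
    exact GaloisField.card 5 2 (by norm_num)
  have e : F ≃+* K := FiniteField.ringEquivOfCardEq (by rw [hF, hK])
  obtain ⟨f⟩ := SporStruct.U35Iso.psu35_iso K hK
  let g : Cfsg.PSU 3 F 5 ≃* SporStruct.U35K50.K50 := (LieClassical.FieldTransfer.psuCongr 3 5 e).trans f
  let S : Subgroup SporStruct.U35K50.K50 := MulAction.stabilizer SporStruct.U35K50.K50 (0 : Fin 50)
  have hS : S.index = 50 := by
    have h1 : MulAction.orbit SporStruct.U35K50.K50 (0 : Fin 50) = Set.univ := by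
      rw [Set.eq_univ_iff_forall]
      intro s
      obtain ⟨k, hk, hks⟩ := SporStruct.U35K50.trans50 s
      exact ⟨⟨k, hk⟩, hks⟩
    rw [MulAction.index_stabilizer, h1, Set.ncard_univ, Nat.card_eq_fintype_card, Fintype.card_fin]
  refine ⟨S.comap g.toMonoidHom, ?_⟩
  rw [Subgroup.index_comap_of_surjective S g.surjective, hS]

end Cfsg.Agent.H212.U3.Five
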