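import Mathlib
import Cfsg.Agent.S0799
import Cfsg.Agent.H436.TTPsl2
import Cfsg.Agent.ClassicalGeometry.PSL2Basic

/-!
# Orders of the subgroups of `PSL₂(q)`
-/

set_option autoImplicit false

namespace Cfsg.Agent.H212.U3.Dick

open Cfsg.Agent Matrix

/-- the orders of the subgroups of `PSL₂(q)` -/
theorem orders {K : Type*} [Field K] [Fintype K] {q : ℕ} (hK : Fintype.card K = q) (p : ℕ)
    [Fact p.Prime] [CharP K p] (D : Subgroup (ProjectiveSpecialLinearGroup (Fin 2) K)) :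
    (∃ k : ℕ, (k ∣ (q + 1) / Nat.gcd 2 (q - 1) ∨ k ∣ (q - 1) / Nat.gcd 2 (q - 1)) ∧
      (Nat.card D = k ∨ Nat.card D = 2 * k)) ∨ (Nat.card D * Nat.gcd 2 (q - 1) ∣ q * (q - 1)) ∨
      Nat.card D = 12 ∨ Nat.card D = 24 ∨ Nat.card D = 60 ∨
      ∃ q₀ m : ℕ, 2 ≤ q₀ ∧ q₀ ^ m = q ∧ (Nat.card D * Nat.gcd 2 (q₀ - 1) = q₀ * (q₀ ^ 2 - 1) ∨
        Nat.card D = q₀ * (q₀ ^ 2 - 1)) := by
  rcases S0799.result hK p D with ⟨k, hk, h⟩ | ⟨P, M, hM, ⟨e⟩⟩ | ⟨⟨e⟩⟩ | ⟨⟨e⟩⟩ | ⟨⟨e⟩⟩ |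
    ⟨K₀, i1, i2, m, hm, h⟩
  · left
    refine ⟨k, hk, ?_⟩
    rcases h with ⟨-, h⟩ | ⟨⟨e⟩⟩
    · exact Or.inl h
    · right
      rw [Nat.card_congr e.toEquiv, DihedralGroup.nat_card]
  · right; left
    have h1 := H436.TT.index_normalizer (F := K) p P
    have h2 := (Subgroup.normalizer ((P : Subgroup (ProjectiveSpecialLinearGroup (Fin 2) K)) :
      Set (ProjectiveSpecialLinearGroup (Fin 2) K))).index_mul_card
    have h3 := ClassicalGeometry.PSL2Basic.card_PSL2_gcd (F := K)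
    rw [h1, hK] at h2
    rw [hK] at h3
    have h4 : Nat.card D ∣ Nat.card (Subgroup.normalizer
        ((P : Subgroup (ProjectiveSpecialLinearGroup (Fin 2) K)) :
          Set (ProjectiveSpecialLinearGroup (Fin 2) K))) := by
      rw [Nat.card_congr e.toEquiv]
      exact Subgroup.card_dvd_of_le hM
    have h5 : Nat.card (Subgroup.normalizer
        ((P : Subgroup (ProjectiveSpecialLinearGroup (Fin 2) K)) :
          Set (ProjectiveSpecialLinearGroup (Fin 2) K))) * Nat.gcd 2 (q - 1) = q * (q - 1) := by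
      have h6 : q ^ 2 - 1 = (q + 1) * (q - 1) := by
        have := Nat.sq_sub_sq q 1
        rwa [one_pow] at this
      rw [← h2, h6] at h3
      have h7 : (q + 1) * (Nat.card (Subgroup.normalizer
        ((P : Subgroup (ProjectiveSpecialLinearGroup (Fin 2) K)) :
          Set (ProjectiveSpecialLinearGroup (Fin 2) K))) * Nat.gcd 2 (q - 1)) =
          (q + 1) * (q * (q - 1)) := by
        rw [← mul_assoc, h3]
        ring
      exact Nat.eq_of_mul_eq_mul_left (by omega) h7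
    rw [← h5]
    exact Nat.mul_dvd_mul_right h4 _
  · right; right; left
    rw [Nat.card_congr e.toEquiv, nat_card_alternatingGroup, Nat.card_fin]
    rfl
  · right; right; right; left
    rw [Nat.card_congr e.toEquiv, Nat.card_perm, Nat.card_fin]
    rfl
  · right; right; right; right; left
    rw [Nat.card_congr e.toEquiv, nat_card_alternatingGroup, Nat.card_fin]
    rfl
  · right; right; right; right; right
    refine ⟨Fintype.card K₀, m, Fintype.one_lt_card, hm, ?_⟩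
    rcases h with ⟨⟨e⟩⟩ | ⟨⟨e⟩⟩
    · left
      rw [Nat.card_congr e.toEquiv, ClassicalGeometry.PSL2Basic.card_PSL2_gcd]
    · right
      rw [Nat.card_congr e.toEquiv, ClassicalGeometry.PSL2Basic.card_PGL2]

theorem coprime_pm {q z : ℕ} (hz : z ∣ q) (hq : 1 < q) : Nat.Coprime z (q + 1) ∧ Nat.Coprime z (q - 1) := by
  constructor
  · exact Nat.Coprime.coprime_dvd_left hz (by simp)
  · refine Nat.Coprime.coprime_dvd_left hz ?_
    rw [Nat.coprime_comm]
    have : q = (q - 1) + 1 := by omega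
    conv_rhs => rw [this]
    simp

theorem gcd_dvd (q : ℕ) (hq : 1 < q) : Nat.gcd 2 (q - 1) ∣ q + 1 := by
  have h : q + 1 = (q - 1) + 2 := by omega
  rw [h]
  exact dvd_add (Nat.gcd_dvd_right _ _) (Nat.gcd_dvd_left _ _)

theorem small {q z N : ℕ} (hN : N = 12 ∨ N = 24 ∨ N = 60) (h : (q + 1) * z ∣ N) (hz : z ∣ q)
    (h1 : 1 < z) (h2 : z < q) : z = 2 ∨ (q = 9 ∧ z = 3) := by
  have hN0 : 0 < N := by omega
  have h3 := Nat.le_of_dvd hN0 h
  have hq : q < 30 := by
    have h4 : (q + 1) * 2 ≤ (q + 1) * z := Nat.mul_le_mul_left _ h1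
    omega
  have k1 : ∀ q < 30, ∀ z < q, ¬ (1 < z ∧ z ∣ q ∧ (q + 1) * z ∣ 12 ∧
      ¬ (z = 2 ∨ (q = 9 ∧ z = 3))) := by
    decide +kernel
  have k2 : ∀ q < 30, ∀ z < q, ¬ (1 < z ∧ z ∣ q ∧ (q + 1) * z ∣ 24 ∧
      ¬ (z = 2 ∨ (q = 9 ∧ z = 3))) := by
    decide +kernel
  have k3 : ∀ q < 30, ∀ z < q, ¬ (1 < z ∧ z ∣ q ∧ (q + 1) * z ∣ 60 ∧
      ¬ (z = 2 ∨ (q = 9 ∧ z = 3))) := by
    decide +kernel
  rcases hN with rfl | rfl | rfl
  · exact by_contra fun hn => k1 q hq z h2 ⟨h1, hz, h, hn⟩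
  · exact by_contra fun hn => k2 q hq z h2 ⟨h1, hz, h, hn⟩
  · exact by_contra fun hn => k3 q hq z h2 ⟨h1, hz, h, hn⟩

/-- case `1 < z < q` -/
theorem num_E {K : Type*} [Field K] [Fintype K] {q : ℕ} (hK : Fintype.card K = q) (p : ℕ)
    [Fact p.Prime] [CharP K p] (D : Subgroup (ProjectiveSpecialLinearGroup (Fin 2) K)) {z e : ℕ}
    (hD : Nat.card D = (q + 1) * z * e) (hz : z ∣ q) (h1 : 1 < z) (h2 : z < q) (he : e ∣ q - 1) :
    z = 2 ∨ (q = 9 ∧ z = 3) := by
  obtain ⟨hc1, hc2⟩ := coprime_pm hz (by omega)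
  have hzqD : (q + 1) * z ∣ Nat.card D := ⟨e, hD⟩
  have hzD : z ∣ Nat.card D := (dvd_mul_left _ _).trans hzqD
  have hqD : q + 1 ∣ Nat.card D := (dvd_mul_right _ _).trans hzqD
  have hD0 : 0 < Nat.card D := Nat.card_pos
  rcases orders hK p D with ⟨k, hk, h⟩ | h | h | h | h | ⟨q₀, m, hq₀, hm, h⟩
  · left
    have hck : Nat.Coprime z k := by
      rcases hk with hk | hk
      · exact Nat.Coprime.coprime_dvd_right (hk.trans (Nat.div_dvd_of_dvd (gcd_dvd q (by omega)))) hc1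
      · exact Nat.Coprime.coprime_dvd_right (hk.trans (Nat.div_dvd_of_dvd (Nat.gcd_dvd_right _ _))) hc2
    have h3 : z ∣ 2 := by
      have h4 : z ∣ 2 * k := by
        rcases h with h | h
        · rw [h] at hzD
          exact hzD.mul_left 2
        · rwa [h] at hzD
      exact hck.dvd_of_dvd_mul_right h4
    have := Nat.le_of_dvd (by norm_num) h3
    omega
  · exfalso
    have h3 : q + 1 ∣ q * (q - 1) := (hqD.mul_right _).trans h
    have h4 : q + 1 ∣ q - 1 := Nat.Coprime.dvd_of_dvd_mul_left (by simp) h3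
    have := Nat.le_of_dvd (by omega) h4
    omega
  · exact small (Or.inl h) (h ▸ hzqD) hz h1 h2
  · exact small (Or.inr (Or.inl h)) (h ▸ hzqD) hz h1 h2
  · exact small (Or.inr (Or.inr h)) (h ▸ hzqD) hz h1 h2
  · exfalso
    have hg : Nat.gcd 2 (q₀ - 1) ∣ 2 := Nat.gcd_dvd_left _ _
    -- a common form
    obtain ⟨g, hg2, hgq, hg'⟩ : ∃ g, g ∣ 2 ∧ (g = 1 ∨ g ∣ q₀ - 1) ∧ Nat.card D * g = q₀ * (q₀ ^ 2 - 1) := by
      rcases h with h | h
      · exact ⟨_, hg, Or.inr (Nat.gcd_dvd_right _ _), h⟩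
      · exact ⟨1, one_dvd _, Or.inl rfl, by rw [mul_one, h]⟩
    have hm0 : m ≠ 0 := by
      rintro rfl
      rw [pow_zero] at hm
      omega
    have hq₀q : q₀ ∣ q := by rw [← hm]; exact dvd_pow_self _ hm0
    have h3 : q + 1 ∣ q₀ * (q₀ ^ 2 - 1) := by
      rw [← hg']
      exact hqD.mul_right _
    have h4 : q + 1 ∣ q₀ ^ 2 - 1 := by
      refine Nat.Coprime.dvd_of_dvd_mul_left ?_ h3
      exact (coprime_pm hq₀q (by omega)).1.symm
    have h5 : 0 < q₀ ^ 2 - 1 := by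
      have : 2 ^ 2 ≤ q₀ ^ 2 := Nat.pow_le_pow_left hq₀ 2
      omega
    have h6 := Nat.le_of_dvd h5 h4
    have hm1 : m = 1 := by
      by_contra hm1
      have h7 : q₀ ^ 2 ≤ q₀ ^ m := Nat.pow_le_pow_right (by omega) (by omega)
      rw [hm] at h7
      omega
    rw [hm1, pow_one] at hm
    subst hm
    have h7 : (q₀ ^ 2 - 1) = (q₀ + 1) * (q₀ - 1) := by
      have := Nat.sq_sub_sq q₀ 1
      rwa [one_pow] at this
    rw [hD, h7] at hg'
    have h8 : z * e * g = q₀ * (q₀ - 1) := by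
      have : (q₀ + 1) * (z * e * g) = (q₀ + 1) * (q₀ * (q₀ - 1)) := by
        rw [← mul_assoc, ← mul_assoc, hg']
        ring
      exact Nat.eq_of_mul_eq_mul_left (by omega) this
    have hce : Nat.Coprime q₀ e :=
      Nat.Coprime.coprime_dvd_right he (coprime_pm (dvd_refl q₀) (by omega)).2
    have hcg : Nat.Coprime q₀ g := by
      rcases hgq with h | h
      · rw [h]; exact Nat.coprime_one_right _
      · exact Nat.Coprime.coprime_dvd_right h (coprime_pm (dvd_refl q₀) (by omega)).2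
    have h9 : q₀ ∣ z * e * g := ⟨q₀ - 1, h8⟩
    have h10 : q₀ ∣ z := hce.dvd_of_dvd_mul_right (hcg.dvd_of_dvd_mul_right h9)
    have := Nat.le_of_dvd (by omega) h10
    omega

/-- subgroups of order prime to `q`, `q` odd -/
theorem num_CD {K : Type*} [Field K] [Fintype K] {q : ℕ} (hK : Fintype.card K = q) (p : ℕ)
    [Fact p.Prime] [CharP K p] (D : Subgroup (ProjectiveSpecialLinearGroup (Fin 2) K))
    (hodd : Odd q) (hD : Nat.Coprime (Nat.card D) q) :
    Nat.card D ≤ q + 1 ∨ Nat.card D = 12 ∨ Nat.card D = 24 ∨ Nat.card D = 60 := by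
  have hq : 1 < q := hK ▸ Fintype.one_lt_card
  have hg : Nat.gcd 2 (q - 1) = 2 := by
    obtain ⟨m, hm⟩ := hodd
    have : 2 ∣ q - 1 := ⟨m, by omega⟩
    exact Nat.gcd_eq_left this
  rcases orders hK p D with ⟨k, hk, h⟩ | h | h | h | h | ⟨q₀, m, hq₀, hm, h⟩
  · left
    rw [hg] at hk
    have h3 : 2 * k ≤ q + 1 := by
      rcases hk with hk | hk
      · have := Nat.le_of_dvd (by omega) hk
        omega
      · have h4 : 0 < (q - 1) / 2 := by
          obtain ⟨m, hm⟩ := hodd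
          omega
        have := Nat.le_of_dvd h4 hk
        omega
    omega
  · left
    have h3 : Nat.card D ∣ q * (q - 1) := (dvd_mul_right _ _).trans h
    have h4 : Nat.card D ∣ q - 1 := hD.dvd_of_dvd_mul_left h3
    have := Nat.le_of_dvd (by omega) h4
    omega
  · exact Or.inr (Or.inl h)
  · exact Or.inr (Or.inr (Or.inl h))
  · exact Or.inr (Or.inr (Or.inr h))
  · exfalso
    have hm0 : m ≠ 0 := by
      rintro rfl
      rw [pow_zero] at hm
      omega
    have hq₀q : q₀ ∣ q := by rw [← hm]; exact dvd_pow_self _ hm0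
    have hc : Nat.Coprime q₀ (Nat.card D) := (Nat.Coprime.coprime_dvd_right hq₀q hD).symm
    have h3 : q₀ ∣ 2 := by
      rcases h with h | h
      · have h4 : q₀ ∣ Nat.card D * Nat.gcd 2 (q₀ - 1) := by rw [h]; exact dvd_mul_right _ _
        exact (hc.dvd_of_dvd_mul_left h4).trans (Nat.gcd_dvd_left _ _)
      · have h4 : q₀ ∣ Nat.card D * 1 := by rw [mul_one, h]; exact dvd_mul_right _ _
        exact (hc.dvd_of_dvd_mul_left h4).trans (one_dvd _)
    have h4 : q₀ = 2 := by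
      have := Nat.le_of_dvd (by norm_num) h3
      omega
    rw [h4] at hq₀q
    exact (Nat.not_even_iff_odd.2 hodd) (even_iff_two_dvd.2 hq₀q)

end Cfsg.Agent.H212.U3.Dick
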