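import Mathlib
import Cfsg.Agent.H212.U3.Num
import Cfsg.Agent.ClassicalGeometry.PSL2Basic

/-!
# The subgroup `SL₂(q)` of `SUG σ`
-/

set_option autoImplicit false

namespace Cfsg.Agent.H212.U3.LSub

open Subgroup MulAction
open Cfsg.Agent
open Cfsg.Agent.UThreeGen.MatGroup
open Cfsg.Agent.H212.U3.Model Cfsg.Agent.H212.U3.Sub Cfsg.Agent.H212.U3.Num
open Cfsg.Agent.HKS.EndU (tor tmat tor_val tor_mem act tor_emb ci wel_tor exists_tor tor_mem_center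
  card_anti comm_of_a sne)

section Def

variable {F : Type*} [Field F] (σ : F →+* F)

/-- the fixed field -/
abbrev Kf : Subfield F := σ.eqLocusField (RingHom.id F)

variable {σ}

theorem fix (x : Kf σ) : σ (x : F) = x := x.2

theorem mem_Kf {x : F} : x ∈ Kf σ ↔ σ x = x := Iff.rfl

/-- the matrix -/
def jm (δ : F) (M : Matrix (Fin 2) (Fin 2) (Kf σ)) : Matrix (Fin 3) (Fin 3) F :=
  !![(M 0 0 : F), 0, (M 0 1 : F) * δ; 0, 1, 0; (M 1 0 : F) * δ⁻¹, 0, (M 1 1 : F)]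

theorem jm_mul {δ : F} (h0 : δ ≠ 0) (M N : Matrix (Fin 2) (Fin 2) (Kf σ)) :
    jm δ M * jm δ N = jm δ (M * N) := by
  ext i j
  fin_cases i <;> fin_cases j <;>
    simp [jm, Matrix.mul_apply, Fin.sum_univ_three, Fin.sum_univ_two]
  · field_simp
  · ring
  · ring
  · field_simp

theorem jm_det {δ : F} (h0 : δ ≠ 0) (M : Matrix (Fin 2) (Fin 2) (Kf σ)) :
    (jm δ M).det = (M.det : Kf σ) := by
  rw [Matrix.det_fin_three, Matrix.det_fin_two]
  simp [jm]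
  field_simp

theorem jm_mem {δ : F} (hδ : σ δ = -δ) (h0 : δ ≠ 0) (M : Matrix (Fin 2) (Fin 2) (Kf σ))
    (hM : M.det = 1) : (jm δ M).transpose * Gm F * (jm δ M).map σ = Gm F := by
  have hd : (M 0 0 : F) * M 1 1 - M 0 1 * M 1 0 = 1 := by
    rw [Matrix.det_fin_two] at hM
    exact congrArg (Subtype.val) hM
  have f00 : σ (M 0 0 : F) = M 0 0 := (M 0 0).2
  have f01 : σ (M 0 1 : F) = M 0 1 := (M 0 1).2
  have f10 : σ (M 1 0 : F) = M 1 0 := (M 1 0).2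
  have f11 : σ (M 1 1 : F) = M 1 1 := (M 1 1).2
  ext i j
  fin_cases i <;> fin_cases j <;>
    simp [jm, Gm, Matrix.mul_apply, Fin.sum_univ_three, f00, f01, f10, f11, hδ]
  · ring
  · field_simp
    linear_combination hd
  · field_simp
    linear_combination hd
  · ring

/-- the embedding of `SL₂(q)` -/
def jh {δ : F} (hδ : σ δ = -δ) (h0 : δ ≠ 0) :
    Matrix.SpecialLinearGroup (Fin 2) (Kf σ) →* SUG σ where
  toFun M := ⟨⟨jm δ M.1, by rw [jm_det h0, M.2]; rfl⟩, jm_mem hδ h0 M.1 M.2⟩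
  map_one' := by
    apply Subtype.ext
    apply Subtype.ext
    ext i j
    fin_cases i <;> fin_cases j <;> simp [jm]
  map_mul' := by
    intro M N
    apply Subtype.ext
    apply Subtype.ext
    exact (jm_mul h0 M.1 N.1).symm

theorem jh_val {δ : F} (hδ : σ δ = -δ) (h0 : δ ≠ 0) (M : Matrix.SpecialLinearGroup (Fin 2) (Kf σ)) :
    (jh hδ h0 M).1.1 = jm δ M.1 := rfl

theorem jh_injective {δ : F} (hδ : σ δ = -δ) (h0 : δ ≠ 0) : Function.Injective (jh hδ h0) := by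
  intro M N h
  have h1 : jm δ M.1 = jm δ N.1 := congrArg (fun g : SUG σ => g.1.1) h
  have e00 : (M.1 0 0 : F) = N.1 0 0 := by simpa [jm] using congrFun (congrFun h1 0) 0
  have e11 : (M.1 1 1 : F) = N.1 1 1 := by simpa [jm] using congrFun (congrFun h1 2) 2
  have e01 : (M.1 0 1 : F) * δ = N.1 0 1 * δ := by simpa [jm, h0] using congrFun (congrFun h1 0) 2
  have e10 : (M.1 1 0 : F) * δ⁻¹ = N.1 1 0 * δ⁻¹ := by simpa [jm, h0] using congrFun (congrFun h1 2) 0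
  apply Subtype.ext
  ext i j
  fin_cases i <;> fin_cases j
  · exact e00
  · exact mul_right_cancel₀ h0 e01
  · exact mul_right_cancel₀ (inv_ne_zero h0) e10
  · exact e11

theorem exists_jh {δ : F} (hδ : σ δ = -δ) (h0 : δ ≠ 0) {g : SUG σ} (h01 : g.1.1 0 1 = 0)
    (h10 : g.1.1 1 0 = 0) (h12 : g.1.1 1 2 = 0) (h21 : g.1.1 2 1 = 0) (h11 : g.1.1 1 1 = 1) :
    g ∈ (jh hδ h0).range := by
  have e := entry_of_mem_SUG g.2
  have hdet : g.1.1.det = 1 := g.1.2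
  have e00 := e 0 0
  have e02 := e 0 2
  have e20 := e 2 0
  have e22 := e 2 2
  simp only [h10, h12, map_zero, mul_zero, sub_zero] at e00 e02 e20 e22
  have j00 : Gm F 0 0 = 0 := by simp [Gm]
  have j02 : Gm F 0 2 = 1 := by simp [Gm]
  have j20 : Gm F 2 0 = 1 := by simp [Gm]
  have j22 : Gm F 2 2 = 0 := by simp [Gm]
  rw [j00] at e00
  rw [j02] at e02
  rw [j20] at e20
  rw [j22] at e22
  rw [Matrix.det_fin_three, h01, h10, h12, h21, h11] at hdet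
  have hd : g.1.1 0 0 * g.1.1 2 2 - g.1.1 0 2 * g.1.1 2 0 = 1 := by linear_combination hdet
  have s22 : σ (g.1.1 2 2) = g.1.1 2 2 := by
    linear_combination g.1.1 2 2 * e02 - g.1.1 2 0 * e22 - σ (g.1.1 2 2) * hd
  have s02 : σ (g.1.1 0 2) = -g.1.1 0 2 := by
    linear_combination -g.1.1 0 2 * e02 + g.1.1 0 0 * e22 - σ (g.1.1 0 2) * hd
  have s00 : σ (g.1.1 0 0) = g.1.1 0 0 := by
    linear_combination -g.1.1 0 2 * e00 + g.1.1 0 0 * e20 - σ (g.1.1 0 0) * hd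
  have s20 : σ (g.1.1 2 0) = -g.1.1 2 0 := by
    linear_combination g.1.1 2 2 * e00 - g.1.1 2 0 * e20 - σ (g.1.1 2 0) * hd
  have k01 : σ (g.1.1 0 2 / δ) = g.1.1 0 2 / δ := by rw [map_div₀, s02, hδ, neg_div_neg_eq]
  have k10 : σ (g.1.1 2 0 * δ) = g.1.1 2 0 * δ := by rw [map_mul, s20, hδ, neg_mul_neg]
  let M : Matrix (Fin 2) (Fin 2) (Kf σ) :=
    !![⟨g.1.1 0 0, s00⟩, ⟨g.1.1 0 2 / δ, k01⟩; ⟨g.1.1 2 0 * δ, k10⟩, ⟨g.1.1 2 2, s22⟩]
  have hM : M.det = 1 := by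
    rw [Matrix.det_fin_two]
    apply Subtype.ext
    change g.1.1 0 0 * g.1.1 2 2 - g.1.1 0 2 / δ * (g.1.1 2 0 * δ) = 1
    have e1 : g.1.1 0 2 / δ * (g.1.1 2 0 * δ) = g.1.1 0 2 * g.1.1 2 0 := by field_simp
    linear_combination hd - e1
  refine ⟨⟨M, hM⟩, ?_⟩
  apply Subtype.ext
  apply Subtype.ext
  change jm δ M = g.1.1
  ext i j
  fin_cases i <;> fin_cases j <;> simp [jm, M, h01, h10, h12, h21, h11, h0]

end Def

section Facts

variable {F : Type*} [Field F] {σ : F →+* F} [hσ : Fact (∀ x, σ (σ x) = x)]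
  {δ : F} (hδ : σ δ = -δ) (h0 : δ ≠ 0)

/-- central unipotent elements are in `L` -/
theorem emb_mem_range {x : HG σ} (hx : x.a = 0) : emb σ x ∈ (jh hδ h0).range := by
  apply exists_jh hδ h0 <;> rw [emb_val] <;> simp [umat, hx]

/-- elements of the torus in `L` -/
theorem tor_mem_range {l : Fˣ} (hl : σ (l : F) = l) : tor σ l ∈ (jh hδ h0).range := by
  apply exists_jh hδ h0 <;> rw [tor_val] <;> simp [tmat, hl]

omit hσ in
/-- elements of `L` -/
theorem entries_of_range {g : SUG σ} (hg : g ∈ (jh hδ h0).range) : g.1.1 0 1 = 0 ∧ g.1.1 1 0 = 0 ∧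
    g.1.1 1 2 = 0 ∧ g.1.1 2 1 = 0 ∧ g.1.1 1 1 = 1 ∧ σ (g.1.1 0 0) = g.1.1 0 0 := by
  obtain ⟨M, rfl⟩ := hg
  rw [jh_val]
  refine ⟨?_, ?_, ?_, ?_, ?_, ?_⟩
  · simp [jm]
  · simp [jm]
  · simp [jm]
  · simp [jm]
  · simp [jm]
  · change σ (M.1 0 0 : F) = (M.1 0 0 : F)
    exact (M.1 0 0).2

/-- `L ∩ U` -/
theorem a_eq_zero {x : HG σ} (hx : emb σ x ∈ (jh hδ h0).range) : x.a = 0 := by
  have := (entries_of_range hδ h0 hx).1
  rw [emb_val] at this
  simpa [umat] using this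

theorem jh_neg_one : jh hδ h0 (-1) = tor σ (-1) := by
  apply Subtype.ext
  apply Subtype.ext
  rw [jh_val, tor_val]
  ext i j
  fin_cases i <;> fin_cases j <;> simp [jm, tmat]

end Facts

end Cfsg.Agent.H212.U3.LSub
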