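import Mathlib

/-!
# Involutions and elements of large prime order in `SL₃`

`not_normalize`: an involution of `SL₃(F)` does not normalise a subgroup of prime order `l` if `l` does not divide
`Q (Q² - 1)`, `Q = |F|`. `rank_one`: for an involution `A` of determinant one `A + 1` has rank one.
-/

set_option autoImplicit false

namespace Cfsg.Agent.H212.U3.Lin

open Matrix

variable {F : Type*} [Field F]

section Rank

variable {A : Matrix (Fin 3) (Fin 3) F}

/-- `adj A = A` for an involution of determinant one -/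
theorem adj_eq (h : A * A = 1) (hd : A.det = 1) : A.adjugate = A := by
  have h1 : A * A.adjugate = 1 := by rw [Matrix.mul_adjugate, hd, one_smul]
  calc A.adjugate = (A * A) * A.adjugate := by rw [h, Matrix.one_mul]
    _ = A * (A * A.adjugate) := Matrix.mul_assoc _ _ _
    _ = A := by rw [h1, Matrix.mul_one]

theorem entries (h : A * A = 1) (hd : A.det = 1) :
    (A 1 1 * A 2 2 - A 1 2 * A 2 1 = A 0 0 ∧ -(A 0 1 * A 2 2) + A 0 2 * A 2 1 = A 0 1 ∧
      A 0 1 * A 1 2 - A 0 2 * A 1 1 = A 0 2) ∧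
    (-(A 1 0 * A 2 2) + A 1 2 * A 2 0 = A 1 0 ∧ A 0 0 * A 2 2 - A 0 2 * A 2 0 = A 1 1 ∧
      -(A 0 0 * A 1 2) + A 0 2 * A 1 0 = A 1 2) ∧
    (A 1 0 * A 2 1 - A 1 1 * A 2 0 = A 2 0 ∧ -(A 0 0 * A 2 1) + A 0 1 * A 2 0 = A 2 1 ∧
      A 0 0 * A 1 1 - A 0 1 * A 1 0 = A 2 2) := by
  have h1 := adj_eq h hd
  rw [Matrix.adjugate_fin_three] at h1
  have e : ∀ i j, (!![A 1 1 * A 2 2 - A 1 2 * A 2 1, -(A 0 1 * A 2 2) + A 0 2 * A 2 1,
    A 0 1 * A 1 2 - A 0 2 * A 1 1; -(A 1 0 * A 2 2) + A 1 2 * A 2 0, A 0 0 * A 2 2 - A 0 2 * A 2 0,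
    -(A 0 0 * A 1 2) + A 0 2 * A 1 0; A 1 0 * A 2 1 - A 1 1 * A 2 0, -(A 0 0 * A 2 1) + A 0 1 * A 2 0,
    A 0 0 * A 1 1 - A 0 1 * A 1 0] : Matrix (Fin 3) (Fin 3) F) i j = A i j := by
    intro i j
    exact congrFun (congrFun h1 i) j
  exact ⟨⟨e 0 0, e 0 1, e 0 2⟩, ⟨e 1 0, e 1 1, e 1 2⟩, ⟨e 2 0, e 2 1, e 2 2⟩⟩

theorem sq_entries (h : A * A = 1) (i j : Fin 3) :
    A i 0 * A 0 j + A i 1 * A 1 j + A i 2 * A 2 j = (1 : Matrix (Fin 3) (Fin 3) F) i j := by
  rw [← h, Matrix.mul_apply, Fin.sum_univ_three]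

/-- the trace of an involution of determinant one is `-1` -/
theorem trace_eq (h : A * A = 1) (hd : A.det = 1) (h1 : A ≠ 1) : A 0 0 + A 1 1 + A 2 2 = -1 := by
  obtain ⟨⟨a00, a01, a02⟩, ⟨a10, a11, a12⟩, ⟨a20, a21, a22⟩⟩ := entries h hd
  by_contra hne
  have h2 : A 0 0 + A 1 1 + A 2 2 + 1 ≠ 0 := fun h0 => hne (by linear_combination h0)
  apply h1
  have key : ∀ i j, (A 0 0 + A 1 1 + A 2 2 + 1) * (A i j - (1 : Matrix (Fin 3) (Fin 3) F) i j) = 0 := by
    intro i j
    have e := sq_entries h i j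
    fin_cases i <;> fin_cases j <;> simp only [Fin.zero_eta, Fin.mk_one, Fin.reduceFinMk,
      Fin.isValue, Matrix.one_apply_eq] at e ⊢
    · linear_combination e + a22 + a11
    · rw [Matrix.one_apply_ne (by decide)] at e ⊢
      linear_combination e - a01
    · rw [Matrix.one_apply_ne (by decide)] at e ⊢
      linear_combination e - a02
    · rw [Matrix.one_apply_ne (by decide)] at e ⊢
      linear_combination e - a10
    · linear_combination e + a22 + a00
    · rw [Matrix.one_apply_ne (by decide)] at e ⊢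
      linear_combination e - a12
    · rw [Matrix.one_apply_ne (by decide)] at e ⊢
      linear_combination e - a20
    · rw [Matrix.one_apply_ne (by decide)] at e ⊢
      linear_combination e - a21
    · linear_combination e + a11 + a00
  ext i j
  exact sub_eq_zero.1 ((mul_eq_zero.1 (key i j)).resolve_left h2)

/-- `A + 1` has rank one: the two by two minors -/
theorem minors (h : A * A = 1) (hd : A.det = 1) (h1 : A ≠ 1) (i j k l : Fin 3) :
    (A + 1) i j * (A + 1) k l = (A + 1) i l * (A + 1) k j := by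
  obtain ⟨⟨a00, a01, a02⟩, ⟨a10, a11, a12⟩, ⟨a20, a21, a22⟩⟩ := entries h hd
  have ht := trace_eq h hd h1
  have m01 : (A 0 0 + 1) * (A 1 1 + 1) = A 0 1 * A 1 0 := by linear_combination a22 + ht
  have m02 : (A 0 0 + 1) * (A 2 2 + 1) = A 0 2 * A 2 0 := by linear_combination a11 + ht
  have m12 : (A 1 1 + 1) * (A 2 2 + 1) = A 1 2 * A 2 1 := by linear_combination a00 + ht
  have n1 : (A 0 0 + 1) * A 1 2 = A 0 2 * A 1 0 := by linear_combination -a12
  have n2 : (A 0 0 + 1) * A 2 1 = A 0 1 * A 2 0 := by linear_combination -a21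
  have n3 : (A 1 1 + 1) * A 0 2 = A 1 2 * A 0 1 := by linear_combination -a02
  have n4 : (A 1 1 + 1) * A 2 0 = A 1 0 * A 2 1 := by linear_combination -a20
  have n5 : (A 2 2 + 1) * A 0 1 = A 2 1 * A 0 2 := by linear_combination -a01
  have n6 : (A 2 2 + 1) * A 1 0 = A 2 0 * A 1 2 := by linear_combination -a10
  have e : ∀ i j, i ≠ j → (A + 1) i j = A i j := by
    intro i j hij
    rw [Matrix.add_apply, Matrix.one_apply_ne hij, add_zero]
  have e' : ∀ i, (A + 1) i i = A i i + 1 := by
    intro i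
    rw [Matrix.add_apply, Matrix.one_apply_eq]
  have e00 := e' 0
  have e01 := e 0 1 (by decide)
  have e02 := e 0 2 (by decide)
  have e10 := e 1 0 (by decide)
  have e11 := e' 1
  have e12 := e 1 2 (by decide)
  have e20 := e 2 0 (by decide)
  have e21 := e 2 1 (by decide)
  have e22 := e' 2
  exact match i, j, k, l with
  | 0, 0, 0, 0 => by ring
  | 0, 0, 0, 1 => by ring
  | 0, 0, 0, 2 => by ring
  | 0, 0, 1, 0 => by ring
  | 0, 0, 1, 1 => by simp only [e00, e11, e01, e10]; linear_combination m01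
  | 0, 0, 1, 2 => by simp only [e00, e12, e02, e10]; linear_combination n1
  | 0, 0, 2, 0 => by ring
  | 0, 0, 2, 1 => by simp only [e00, e21, e01, e20]; linear_combination n2
  | 0, 0, 2, 2 => by simp only [e00, e22, e02, e20]; linear_combination m02
  | 0, 1, 0, 0 => by ring
  | 0, 1, 0, 1 => by ring
  | 0, 1, 0, 2 => by ring
  | 0, 1, 1, 0 => by simp only [e01, e10, e00, e11]; linear_combination -m01
  | 0, 1, 1, 1 => by ring
  | 0, 1, 1, 2 => by simp only [e01, e12, e02, e11]; linear_combination -n3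
  | 0, 1, 2, 0 => by simp only [e01, e20, e00, e21]; linear_combination -n2
  | 0, 1, 2, 1 => by ring
  | 0, 1, 2, 2 => by simp only [e01, e22, e02, e21]; linear_combination n5
  | 0, 2, 0, 0 => by ring
  | 0, 2, 0, 1 => by ring
  | 0, 2, 0, 2 => by ring
  | 0, 2, 1, 0 => by simp only [e02, e10, e00, e12]; linear_combination -n1
  | 0, 2, 1, 1 => by simp only [e02, e11, e01, e12]; linear_combination n3
  | 0, 2, 1, 2 => by ring
  | 0, 2, 2, 0 => by simp only [e02, e20, e00, e22]; linear_combination -m02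
  | 0, 2, 2, 1 => by simp only [e02, e21, e01, e22]; linear_combination -n5
  | 0, 2, 2, 2 => by ring
  | 1, 0, 0, 0 => by ring
  | 1, 0, 0, 1 => by simp only [e10, e01, e11, e00]; linear_combination -m01
  | 1, 0, 0, 2 => by simp only [e10, e02, e12, e00]; linear_combination -n1
  | 1, 0, 1, 0 => by ring
  | 1, 0, 1, 1 => by ring
  | 1, 0, 1, 2 => by ring
  | 1, 0, 2, 0 => by ring
  | 1, 0, 2, 1 => by simp only [e10, e21, e11, e20]; linear_combination -n4
  | 1, 0, 2, 2 => by simp only [e10, e22, e12, e20]; linear_combination n6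
  | 1, 1, 0, 0 => by simp only [e11, e00, e10, e01]; linear_combination m01
  | 1, 1, 0, 1 => by ring
  | 1, 1, 0, 2 => by simp only [e11, e02, e12, e01]; linear_combination n3
  | 1, 1, 1, 0 => by ring
  | 1, 1, 1, 1 => by ring
  | 1, 1, 1, 2 => by ring
  | 1, 1, 2, 0 => by simp only [e11, e20, e10, e21]; linear_combination n4
  | 1, 1, 2, 1 => by ring
  | 1, 1, 2, 2 => by simp only [e11, e22, e12, e21]; linear_combination m12
  | 1, 2, 0, 0 => by simp only [e12, e00, e10, e02]; linear_combination n1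
  | 1, 2, 0, 1 => by simp only [e12, e01, e11, e02]; linear_combination -n3
  | 1, 2, 0, 2 => by ring
  | 1, 2, 1, 0 => by ring
  | 1, 2, 1, 1 => by ring
  | 1, 2, 1, 2 => by ring
  | 1, 2, 2, 0 => by simp only [e12, e20, e10, e22]; linear_combination -n6
  | 1, 2, 2, 1 => by simp only [e12, e21, e11, e22]; linear_combination -m12
  | 1, 2, 2, 2 => by ring
  | 2, 0, 0, 0 => by ring
  | 2, 0, 0, 1 => by simp only [e20, e01, e21, e00]; linear_combination -n2
  | 2, 0, 0, 2 => by simp only [e20, e02, e22, e00]; linear_combination -m02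
  | 2, 0, 1, 0 => by ring
  | 2, 0, 1, 1 => by simp only [e20, e11, e21, e10]; linear_combination n4
  | 2, 0, 1, 2 => by simp only [e20, e12, e22, e10]; linear_combination -n6
  | 2, 0, 2, 0 => by ring
  | 2, 0, 2, 1 => by ring
  | 2, 0, 2, 2 => by ring
  | 2, 1, 0, 0 => by simp only [e21, e00, e20, e01]; linear_combination n2
  | 2, 1, 0, 1 => by ring
  | 2, 1, 0, 2 => by simp only [e21, e02, e22, e01]; linear_combination -n5
  | 2, 1, 1, 0 => by simp only [e21, e10, e20, e11]; linear_combination -n4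
  | 2, 1, 1, 1 => by ring
  | 2, 1, 1, 2 => by simp only [e21, e12, e22, e11]; linear_combination -m12
  | 2, 1, 2, 0 => by ring
  | 2, 1, 2, 1 => by ring
  | 2, 1, 2, 2 => by ring
  | 2, 2, 0, 0 => by simp only [e22, e00, e20, e02]; linear_combination m02
  | 2, 2, 0, 1 => by simp only [e22, e01, e21, e02]; linear_combination n5
  | 2, 2, 0, 2 => by ring
  | 2, 2, 1, 0 => by simp only [e22, e10, e20, e12]; linear_combination n6
  | 2, 2, 1, 1 => by simp only [e22, e11, e21, e12]; linear_combination m12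
  | 2, 2, 1, 2 => by ring
  | 2, 2, 2, 0 => by ring
  | 2, 2, 2, 1 => by ring
  | 2, 2, 2, 2 => by ring

/-- **rank one** -/
theorem rank_one (h : A * A = 1) (hd : A.det = 1) (h1 : A ≠ 1) :
    ∃ v w : Fin 3 → F, v ≠ 0 ∧ w ≠ 0 ∧ ∀ x, (A + 1) *ᵥ x = (w ⬝ᵥ x) • v := by
  have hne : A + 1 ≠ 0 := by
    intro h0
    have h2 : A = -1 := eq_neg_of_add_eq_zero_left h0
    have h3 : (-1 : Matrix (Fin 3) (Fin 3) F).det = -1 := by
      rw [Matrix.det_neg, Matrix.det_one]
      norm_num
    rw [h2, h3] at hd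
    apply h1
    rw [h2]
    ext i j
    rw [Matrix.neg_apply]
    have h4 : (2 : F) = 0 := by linear_combination -hd
    linear_combination -(1 : Matrix (Fin 3) (Fin 3) F) i j * h4
  obtain ⟨i₀, j₀, hij⟩ : ∃ i j, (A + 1) i j ≠ 0 := by
    by_contra hcon
    push Not at hcon
    exact hne (Matrix.ext hcon)
  refine ⟨fun i => (A + 1) i j₀, fun j => (A + 1) i₀ j / (A + 1) i₀ j₀, ?_, ?_, ?_⟩
  · intro h0
    exact hij (congrFun h0 i₀)
  · intro h0
    have := congrFun h0 j₀
    simp only [Pi.zero_apply] at this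
    rw [div_self hij] at this
    exact one_ne_zero this
  · intro x
    funext i
    rw [Pi.smul_apply, smul_eq_mul]
    simp only [Matrix.mulVec, dotProduct, Fin.sum_univ_three]
    have m := fun j => minors h hd h1 i j i₀ j₀
    have m' : ∀ j, (A + 1) i j = (A + 1) i₀ j / (A + 1) i₀ j₀ * (A + 1) i j₀ := by
      intro j
      rw [eq_comm, div_mul_eq_mul_div, div_eq_iff hij, m j, mul_comm]
    rw [m' 0, m' 1, m' 2]
    ring

end Rank

section NoEig

/-- a matrix of prime order `l` without fixed line -/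
theorem no_eig [Finite F] {l : ℕ} (hl : l.Prime) (h1 : ¬ l ∣ Nat.card F)
    (h2 : ¬ l ∣ Nat.card F ^ 2 - 1) {y : Matrix (Fin 3) (Fin 3) F} (hy : y ^ l = 1) (hy1 : y ≠ 1)
    {v : Fin 3 → F} (hv : v ≠ 0) {c : F} (hc : y *ᵥ v = c • v) : False := by
  classical
  cases nonempty_fintype F
  let f : (Fin 3 → F) →ₗ[F] (Fin 3 → F) := Matrix.toLin' y
  have hfl : f ^ l = 1 := by
    rw [← Matrix.toLin'_pow, hy, Matrix.toLin'_one]
    rfl
  have hfv : f v = c • v := by rw [Matrix.toLin'_apply, hc]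
  -- `c = 1`
  have hcl : c ^ l = 1 := by
    have h3 : ∀ n : ℕ, (f ^ n) v = c ^ n • v := by
      intro n
      induction n with
      | zero => simp
      | succ n ih =>
        rw [pow_succ', Module.End.mul_apply, ih, map_smul, hfv, smul_smul, pow_succ]
    have h4 := h3 l
    rw [hfl, Module.End.one_apply] at h4
    have h5 : (c ^ l - 1) • v = 0 := by rw [sub_smul, one_smul, ← h4, sub_self]
    exact sub_eq_zero.1 ((smul_eq_zero.1 h5).resolve_right hv)
  have hl2 : ¬ l ∣ Nat.card F - 1 := by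
    intro h
    apply h2
    have : Nat.card F ^ 2 - 1 = (Nat.card F + 1) * (Nat.card F - 1) := by
      have := Nat.sq_sub_sq (Nat.card F) 1
      rwa [one_pow] at this
    rw [this]
    exact h.mul_left _
  have hc0 : c ≠ 0 := by
    rintro rfl
    rw [zero_pow hl.ne_zero] at hcl
    exact zero_ne_one hcl
  have hc1 : c = 1 := by
    have h3 : orderOf (Units.mk0 c hc0) ∣ l := orderOf_dvd_of_pow_eq_one (Units.ext (by simpa using hcl))
    rcases (Nat.dvd_prime hl).1 h3 with h4 | h4
    · have := orderOf_eq_one_iff.1 h4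
      simpa using congrArg Units.val this
    · exfalso
      apply hl2
      rw [← h4, ← Nat.card_units]
      exact orderOf_dvd_natCard _
  -- the quotient
  let W : Submodule F (Fin 3 → F) := Submodule.span F {v}
  have hW : W ≤ W.comap f := by
    rw [Submodule.span_le, Set.singleton_subset_iff]
    change f v ∈ W
    rw [hfv]
    exact W.smul_mem _ (Submodule.mem_span_singleton_self v)
  have hfin : Module.finrank F ((Fin 3 → F) ⧸ W) = 2 := by
    have h3 := Submodule.finrank_quotient_add_finrank W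
    rw [finrank_span_singleton hv, Module.finrank_fintype_fun_eq_card, Fintype.card_fin] at h3
    omega
  let b := Module.finBasisOfFinrankEq F ((Fin 3 → F) ⧸ W) hfin
  let g : ((Fin 3 → F) ⧸ W) →ₗ[F] ((Fin 3 → F) ⧸ W) := W.mapQ W f hW
  have hgn : ∀ (n : ℕ) (x : Fin 3 → F), (g ^ n) (W.mkQ x) = W.mkQ ((f ^ n) x) := by
    intro n
    induction n with
    | zero => intro x; rfl
    | succ n ih =>
      intro x
      rw [pow_succ, pow_succ, Module.End.mul_apply, Module.End.mul_apply]
      have : g (W.mkQ x) = W.mkQ (f x) := Submodule.mapQ_apply _ _ _ _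
      rw [this, ih]
  have hgl : g ^ l = 1 := by
    apply LinearMap.ext
    intro x
    obtain ⟨x, rfl⟩ := W.mkQ_surjective x
    rw [hgn, hfl]
    rfl
  have hg1 : g = 1 := by
    let M : Matrix (Fin 2) (Fin 2) F := LinearMap.toMatrixAlgEquiv b g
    have hM : M ^ l = 1 := by
      rw [← map_pow, hgl, map_one]
    have hMu : IsUnit M := IsUnit.of_pow_eq_one hM hl.ne_zero
    obtain ⟨u, hu⟩ := hMu
    have h3 : u ^ l = 1 := Units.ext (by rw [Units.val_pow_eq_pow_val, hu, hM, Units.val_one])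
    have h4 : orderOf u ∣ l := orderOf_dvd_of_pow_eq_one h3
    rcases (Nat.dvd_prime hl).1 h4 with h5 | h5
    · have h6 := orderOf_eq_one_iff.1 h5
      rw [h6, Units.val_one] at hu
      exact (LinearMap.toMatrixAlgEquiv b).injective (hu.symm.trans (map_one _).symm)
    · exfalso
      have h6 : l ∣ Nat.card (GL (Fin 2) F) := by
        rw [← h5]
        exact orderOf_dvd_natCard _
      rw [Matrix.card_GL_field] at h6
      simp only [Fin.prod_univ_two, Fin.val_zero, pow_zero, Fin.val_one, pow_one] at h6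
      rw [← Nat.card_eq_fintype_card (α := F)] at h6
      rcases (Nat.Prime.dvd_mul hl).1 h6 with h7 | h7
      · exact h2 h7
      · have h8 : Nat.card F ^ 2 - Nat.card F = Nat.card F * (Nat.card F - 1) := by
          rw [Nat.mul_sub, mul_one, sq]
        rw [h8] at h7
        rcases (Nat.Prime.dvd_mul hl).1 h7 with h9 | h9
        · exact h1 h9
        · exact hl2 h9
  -- `f` is unipotent
  have hdiff : ∀ x, ∃ a : F, f x = x + a • v := by
    intro x
    have h3 : W.mkQ (f x) = W.mkQ x := by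
      have := hgn 1 x
      rw [pow_one, pow_one, hg1] at this
      exact this.symm
    have h4 : f x - x ∈ W := (Submodule.Quotient.eq W).1 h3
    obtain ⟨a, ha⟩ := Submodule.mem_span_singleton.1 h4
    exact ⟨a, by rw [ha]; abel⟩
  have hfv1 : f v = v := by rw [hfv, hc1, one_smul]
  have hpow : ∀ (x : Fin 3 → F) (a : F), f x = x + a • v → ∀ n : ℕ, (f ^ n) x = x + (n * a) • v := by
    intro x a ha n
    induction n with
    | zero => simp
    | succ n ih =>
      rw [pow_succ', Module.End.mul_apply, ih, map_add, map_smul, hfv1, ha]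
      push_cast
      rw [add_mul, one_mul, add_smul]
      abel
  have hl0 : (l : F) ≠ 0 := by
    intro h0
    obtain ⟨p, hp⟩ := CharP.exists F
    have h3 : p ∣ l := (CharP.cast_eq_zero_iff F p l).1 h0
    have hpp : p.Prime := CharP.char_is_prime F p
    have h4 : p = l := (Nat.prime_dvd_prime_iff_eq hpp hl).1 h3
    subst h4
    obtain ⟨n, -, hn⟩ := FiniteField.card F p
    apply h1
    rw [Nat.card_eq_fintype_card, hn]
    exact dvd_pow_self p n.2.ne'
  apply hy1
  have hf1 : f = 1 := by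
    apply LinearMap.ext
    intro x
    obtain ⟨a, ha⟩ := hdiff x
    have h3 := hpow x a ha l
    rw [hfl, Module.End.one_apply] at h3
    have h4 : ((l : F) * a) • v = 0 := by
      have : x + ((l : F) * a) • v = x + 0 := by rw [← h3, add_zero]
      exact add_left_cancel this
    have h5 := (smul_eq_zero.1 h4).resolve_right hv
    have h6 := (mul_eq_zero.1 h5).resolve_left hl0
    rw [ha, h6, zero_smul, add_zero]
    rfl
  have : Matrix.toLin' y = Matrix.toLin' 1 := by
    rw [Matrix.toLin'_one]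
    exact hf1
  exact Matrix.toLin'.injective this

/-- two linear functionals on `F³` have a common nonzero zero -/
theorem exists_common (w w' : Fin 3 → F) : ∃ x : Fin 3 → F, x ≠ 0 ∧ w ⬝ᵥ x = 0 ∧ w' ⬝ᵥ x = 0 := by
  let M : Matrix (Fin 3) (Fin 3) F := Matrix.of ![w, w', 0]
  have hM : M.det = 0 := Matrix.det_eq_zero_of_row_eq_zero 2 (fun j => rfl)
  obtain ⟨x, hx, h⟩ := Matrix.exists_mulVec_eq_zero_iff.2 hM
  exact ⟨x, hx, congrFun h 0, congrFun h 1⟩

theorem coe_mul_SL (a b : SpecialLinearGroup (Fin 3) F) : (a * b).1 = a.1 * b.1 := rfl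

theorem coe_one_SL : (1 : SpecialLinearGroup (Fin 3) F).1 = 1 := rfl

/-- **An involution does not normalise a subgroup of large prime order.** -/
theorem not_normalize [Finite F] {l : ℕ} (hl : l.Prime) (h1 : ¬ l ∣ Nat.card F)
    (h2 : ¬ l ∣ Nat.card F ^ 2 - 1) {y t : SpecialLinearGroup (Fin 3) F} (hy : orderOf y = l)
    (ht : t * t = 1) (ht1 : t ≠ 1) (hn : t * y * t⁻¹ ∈ Subgroup.zpowers y) : False := by
  have hyl : y.1 ^ l = 1 := by
    have h3 : y ^ l = 1 := by rw [← hy, pow_orderOf_eq_one]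
    exact congrArg Subtype.val h3
  have hy1 : y.1 ≠ 1 := by
    intro h0
    have h3 : y = 1 := Subtype.ext h0
    rw [h3, orderOf_one] at hy
    exact hl.one_lt.ne hy
  have htt : t.1 * t.1 = 1 := congrArg Subtype.val ht
  have ht1' : t.1 ≠ 1 := fun h0 => ht1 (Subtype.ext h0)
  have htinv : t⁻¹ = t := inv_eq_of_mul_eq_one_right ht
  obtain ⟨v, w, hv, hw, hvw⟩ := rank_one htt t.2 ht1'
  obtain ⟨j, hj⟩ := hn
  have hj : y ^ j = t * y * t⁻¹ := hj
  have h3 : y ^ (j * j - 1) = 1 := by
    have h4 : t * y ^ j * t⁻¹ = y := by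
      rw [hj, htinv]
      calc t * (t * y * t) * t = (t * t) * y * (t * t) := by group
        _ = y := by rw [ht]; group
    have h5 : t * y ^ j * t⁻¹ = y ^ (j * j) := by
      rw [← conj_zpow, ← hj, ← _root_.zpow_mul]
    rw [_root_.zpow_sub, zpow_one, ← h5, h4, mul_inv_cancel]
  have h4 : (l : ℤ) ∣ (j - 1) * (j + 1) := by
    rw [← hy]
    have := orderOf_dvd_iff_zpow_eq_one.2 h3
    have e : (j - 1) * (j + 1) = j * j - 1 := by ring
    rwa [e]
  rcases (Int.Prime.dvd_mul' hl h4) with h5 | h5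
  · -- commuting
    have h6 : y ^ (j - 1) = 1 := orderOf_dvd_iff_zpow_eq_one.1 (by rwa [hy])
    have h7 : y ^ j = y := by
      rw [_root_.zpow_sub, zpow_one, mul_inv_eq_one] at h6
      exact h6
    have h8 : t * y = y * t := by
      rw [h7] at hj
      calc t * y = (t * y * t⁻¹) * t := by group
        _ = y * t := by rw [← hj]
    have h9 : t.1 * y.1 = y.1 * t.1 := congrArg Subtype.val h8
    obtain ⟨i, hi⟩ : ∃ i, w i ≠ 0 := by
      by_contra hcon
      push Not at hcon
      exact hw (funext hcon)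
    let x : Fin 3 → F := Pi.single i 1
    have hx : w ⬝ᵥ x = w i := by simp [x]
    have e1 : y.1 *ᵥ ((t.1 + 1) *ᵥ x) = (t.1 + 1) *ᵥ (y.1 *ᵥ x) := by
      rw [Matrix.mulVec_mulVec, Matrix.mulVec_mulVec, Matrix.mul_add, Matrix.add_mul, h9, Matrix.mul_one,
        Matrix.one_mul]
    rw [hvw, hvw, Matrix.mulVec_smul, hx] at e1
    refine no_eig hl h1 h2 hyl hy1 hv (c := (w i)⁻¹ * (w ⬝ᵥ y.1 *ᵥ x)) ?_
    rw [mul_smul, ← e1, smul_smul, inv_mul_cancel₀ hi, one_smul]
  · -- inverting
    have h6 : y ^ (j + 1) = 1 := orderOf_dvd_iff_zpow_eq_one.1 (by rwa [hy])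
    have h7 : y ^ j = y⁻¹ := by
      rw [_root_.zpow_add, zpow_one] at h6
      exact eq_inv_of_mul_eq_one_left h6
    rw [h7] at hj
    have h8 : (y * t) * (y * t) = 1 := by
      have : t * y = y⁻¹ * t := by rw [hj]; group
      calc (y * t) * (y * t) = y * (t * y) * t := by group
        _ = t * t := by rw [this]; group
        _ = 1 := ht
    have h9 : y * t ≠ 1 := by
      intro h0
      have e1 : y = t := by
        rw [← htinv]
        exact eq_inv_of_mul_eq_one_left h0
      have e2 : l ∣ 2 := by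
        rw [← hy, e1]
        exact orderOf_dvd_of_pow_eq_one (by rw [sq, ht])
      have e3 : l = 2 := (Nat.prime_dvd_prime_iff_eq hl Nat.prime_two).1 e2
      subst e3
      rcases Nat.even_or_odd (Nat.card F) with h | h
      · exact h1 h.two_dvd
      · apply h2
        have h10 : Odd (Nat.card F ^ 2) := h.pow
        obtain ⟨m, hm⟩ := h10
        rw [hm]
        exact ⟨m, by omega⟩
    obtain ⟨v', w', hv', hw', hvw'⟩ := rank_one (A := (y * t).1) (congrArg Subtype.val h8) (y * t).2
      (fun h0 => h9 (Subtype.ext h0))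
    obtain ⟨x, hx, hx1, hx2⟩ := exists_common w w'
    have e1 : t.1 *ᵥ x = -x := by
      have := hvw x
      rw [hx1, zero_smul, Matrix.add_mulVec, Matrix.one_mulVec] at this
      exact eq_neg_of_add_eq_zero_left this
    have e2 : (y * t).1 *ᵥ x = -x := by
      have := hvw' x
      rw [hx2, zero_smul, Matrix.add_mulVec, Matrix.one_mulVec] at this
      exact eq_neg_of_add_eq_zero_left this
    rw [coe_mul_SL, ← Matrix.mulVec_mulVec, e1, Matrix.mulVec_neg, neg_inj] at e2
    exact no_eig hl h1 h2 hyl hy1 hx (c := 1) (by rw [e2, one_smul])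

end NoEig

end Cfsg.Agent.H212.U3.Lin
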