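import Mathlib
import Cfsg.Agent.H212.U3.Lin

/-!
# Sylow arguments for subgroups of `SL₃(F)` containing elements of large prime order
-/

set_option autoImplicit false

namespace Cfsg.Agent.H212.U3.Syl

open Matrix
open Cfsg.Agent.H212.U3.Lin

variable {F : Type*} [Field F] [Finite F]

/-- If `l` divides `|K|` exactly once, the normaliser of a Sylow `l`-subgroup has odd order. -/
theorem odd_normalizer {K : Type*} [Group K] [Finite K] (f : K →* SpecialLinearGroup (Fin 3) F)
    (hf : Function.Injective f) {l : ℕ} [hl : Fact l.Prime] (hlN : l ∣ Nat.card K)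
    (hl2 : ¬ l ^ 2 ∣ Nat.card K) (h1 : ¬ l ∣ Nat.card F) (h2 : ¬ l ∣ Nat.card F ^ 2 - 1)
    (P : Sylow l K) : Nat.card P = l ∧ ¬ 2 ∣ Nat.card (Subgroup.normalizer ((P : Subgroup K) : Set K)) := by
  have hP : Nat.card P = l := by
    obtain ⟨k, hk⟩ := IsPGroup.iff_card.1 P.isPGroup'
    have h3 : l ∣ Nat.card P := P.dvd_card_of_dvd_card hlN
    have h4 : Nat.card P ∣ Nat.card K := Subgroup.card_subgroup_dvd_card _
    rcases k with _ | _ | k
    · rw [hk, pow_zero] at h3
      exact absurd (Nat.dvd_one.1 h3) hl.out.one_lt.ne'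
    · rw [hk, zero_add, pow_one]
    · exfalso
      apply hl2
      refine dvd_trans ?_ h4
      rw [hk]
      exact pow_dvd_pow l (by omega)
  refine ⟨hP, ?_⟩
  intro heven
  have : Fact (Nat.Prime 2) := ⟨Nat.prime_two⟩
  obtain ⟨t, ht⟩ := exists_prime_orderOf_dvd_card' 2 heven
  -- generator
  have hcyc : IsCyclic P := isCyclic_of_prime_card hP
  obtain ⟨y, hy⟩ := hcyc.exists_generator
  have hyo : orderOf y = l := by rw [orderOf_eq_card_of_forall_mem_zpowers hy, hP]
  have hfy : orderOf (f y.1) = l := by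
    rw [orderOf_injective f hf, Subgroup.orderOf_coe, hyo]
  have htt : t.1 * t.1 = 1 := by
    have h3 : t ^ 2 = 1 := by rw [← ht, pow_orderOf_eq_one]
    rw [sq] at h3
    exact congrArg Subtype.val h3
  have ht1 : t.1 ≠ 1 := by
    intro h0
    have : t = 1 := Subtype.ext h0
    rw [this, orderOf_one] at ht
    norm_num at ht
  refine not_normalize hl.out h1 h2 (t := f t.1) hfy ?_ ?_ ?_
  · rw [← map_mul, htt, map_one]
  · intro h0
    exact ht1 (hf (h0.trans (map_one f).symm))
  · have h3 : t.1 * y.1 * t.1⁻¹ ∈ (P : Subgroup K) :=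
      (Subgroup.mem_normalizer_iff.1 t.2 y.1).1 y.2
    obtain ⟨j, hj⟩ := hy ⟨_, h3⟩
    refine ⟨j, ?_⟩
    have h4 : y.1 ^ j = t.1 * y.1 * t.1⁻¹ := congrArg Subtype.val hj
    change f y.1 ^ j = _
    rw [← map_zpow, h4, map_mul, map_mul, map_inv]

/-- Numerical criterion: there is no such subgroup. -/
theorem contra {K : Type*} [Group K] [Finite K] (f : K →* SpecialLinearGroup (Fin 3) F)
    (hf : Function.Injective f) {l m : ℕ} (hl : l.Prime) (hN : Nat.card K = l * m) (hm : ¬ l ∣ m)
    (hnum : ∀ j < m / l + 1, l * j + 1 ∣ m → 2 ∣ l * (m / (l * j + 1)))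
    (h1 : ¬ l ∣ Nat.card F) (h2 : ¬ l ∣ Nat.card F ^ 2 - 1) : False := by
  have : Fact l.Prime := ⟨hl⟩
  have hl2 : ¬ l ^ 2 ∣ Nat.card K := by
    rw [hN, sq]
    intro h
    exact hm (Nat.dvd_of_mul_dvd_mul_left hl.pos h)
  have hm0 : 0 < m := by
    rcases Nat.eq_zero_or_pos m with h | h
    · exact absurd (h ▸ dvd_zero l) hm
    · exact h
  obtain ⟨P⟩ : Nonempty (Sylow l K) := inferInstance
  obtain ⟨hP, hodd⟩ := odd_normalizer f hf (hN ▸ dvd_mul_right l m) hl2 h1 h2 P
  apply hodd
  have h3 : Nat.card (Sylow l K) ≡ 1 [MOD l] := card_sylow_modEq_one l K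
  have h4 : Nat.card (Sylow l K) = (Subgroup.normalizer ((P : Subgroup K) : Set K)).index :=
    P.card_eq_index_normalizer
  have h5 := (Subgroup.normalizer ((P : Subgroup K) : Set K)).index_mul_card
  have h6 : l ∣ Nat.card (Subgroup.normalizer ((P : Subgroup K) : Set K)) := by
    have h7 : Nat.card P ∣ Nat.card (Subgroup.normalizer ((P : Subgroup K) : Set K)) :=
      Subgroup.card_dvd_of_le Subgroup.le_normalizer
    exact (dvd_of_eq hP.symm).trans h7
  obtain ⟨c, hc⟩ := h6
  rw [h4] at h3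
  have hidx := Subgroup.index_ne_zero_of_finite (H := Subgroup.normalizer ((P : Subgroup K) : Set K))
  generalize (Subgroup.normalizer ((P : Subgroup K) : Set K)).index = n at *
  have h7 : n * c = m := by
    rw [hc, hN] at h5
    have : l * (n * c) = l * m := by rw [← h5]; ring
    exact Nat.eq_of_mul_eq_mul_left hl.pos this
  have h8 : n = l * (n / l) + 1 := by
    have h9 : n % l = 1 % l := h3
    rw [Nat.mod_eq_of_lt hl.one_lt] at h9
    conv_lhs => rw [← Nat.div_add_mod n l, h9]
  have hn : n ∣ m := ⟨c, h7.symm⟩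
  have h9 := hnum (n / l) ?_ (by rw [← h8]; exact hn)
  · rw [← h8] at h9
    rw [hc]
    have : m / n = c := by rw [← h7]; exact Nat.mul_div_cancel_left c (Nat.pos_of_ne_zero hidx)
    rwa [this] at h9
  · have : n ≤ m := Nat.le_of_dvd hm0 hn
    have := Nat.div_le_div_right (c := l) this
    omega

end Cfsg.Agent.H212.U3.Syl
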