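import Mathlib
import Cfsg.Agent.H212.U3.CaseE2

/-!
# The case `|H ∩ B| = q² - 1`, `q` even
-/

set_option autoImplicit false

namespace Cfsg.Agent.H212.U3.Even

open Subgroup MulAction
open Cfsg.Agent
open Cfsg.Agent.UThreeGen.MatGroup
open Cfsg.Agent.H212.U3.Model Cfsg.Agent.H212.U3.Sub Cfsg.Agent.H212.U3.Num Cfsg.Agent.H212.U3.LSub
open Cfsg.Agent.H212.U3.CaseE Cfsg.Agent.H212.U3.CaseE2 Cfsg.Agent.H212.U3.Arith
open Cfsg.Agent.HKS.EndU (tor tmat tor_val tor_mem act tor_emb ci ci_val wel_tor exists_tor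
  tor_mem_center card_anti comm_of_a sne)

section

variable {F : Type*} [Field F] {σ : F →+* F} [hσ : Fact (∀ x, σ (σ x) = x)]

theorem act_mul (l : Fˣ) (x y : HG σ) : act l (x * y) = act l x * act l y := by
  apply emb_injective
  have h1 : tor σ l * emb σ (x * y) = tor σ l * emb σ x * emb σ y := by rw [map_mul, mul_assoc]
  rw [tor_emb, tor_emb, mul_assoc, tor_emb, ← mul_assoc] at h1
  rw [map_mul]
  exact mul_right_cancel h1

theorem act_fixed {l : Fˣ} (h1 : (l : F) ^ 2 / σ (l : F) ≠ 1) (h2 : (l : F) * σ (l : F) ≠ 1)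
    {x : HG σ} (hx : act l x = x) : x = 1 := by
  have ha : (l : F) ^ 2 / σ (l : F) * x.a = x.a := congrArg HG.a hx
  have hb : (l : F) * σ (l : F) * x.b = x.b := congrArg HG.b hx
  ext
  · by_contra h
    exact h1 (mul_right_cancel₀ (b := x.a) h (by rw [ha, one_mul]))
  · by_contra h
    exact h2 (mul_right_cancel₀ (b := x.b) h (by rw [hb, one_mul]))

/-- `s ↦ s * (act l s)⁻¹` is bijective -/
theorem bij [Finite F] {l : Fˣ} (h1 : (l : F) ^ 2 / σ (l : F) ≠ 1) (h2 : (l : F) * σ (l : F) ≠ 1) :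
    Function.Bijective (fun s : HG σ => s * (act l s)⁻¹) := by
  have : Finite (HG σ) := Finite.of_injective (fun x : HG σ => (x.a, x.b)) (by
    intro x y h
    ext
    · exact congrArg Prod.fst h
    · exact congrArg Prod.snd h)
  rw [← Finite.injective_iff_bijective]
  intro x y hxy
  have hxy : x * (act l x)⁻¹ = y * (act l y)⁻¹ := hxy
  have h3 : act l (y⁻¹ * x) = y⁻¹ * x := by
    rw [act_mul]
    have h4 : act l y⁻¹ * act l y = 1 := by
      rw [← act_mul, inv_mul_cancel]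
      ext
      · simp [act]
      · simp [act]
    rw [eq_inv_of_mul_eq_one_left h4]
    have h5 : y⁻¹ * x = (act l y)⁻¹ * act l x := by
      calc y⁻¹ * x = y⁻¹ * (x * (act l x)⁻¹) * act l x := by group
        _ = y⁻¹ * (y * (act l y)⁻¹) * act l x := by rw [hxy]
        _ = _ := by group
    exact h5.symm
  exact (inv_mul_eq_one.1 (act_fixed h1 h2 h3)).symm

/-- an element of the Borel subgroup with regular character value has exactly two fixed points -/
theorem exists_unique_fix [Finite F] {l : Fˣ} (h1 : (l : F) ^ 2 / σ (l : F) ≠ 1)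
    (h2 : (l : F) * σ (l : F) ≠ 1) {g : SUG σ} (hg : g ∈ borel σ) (hl : chi σ ⟨g, hg⟩ = l) :
    ∃ x1 : SUG σ ⧸ borel σ, x1 ≠ x0 σ ∧ g • x1 = x1 ∧ ∀ x, g • x = x → x = x0 σ ∨ x = x1 := by
  obtain ⟨x, hx⟩ := exists_decomp hg
  rw [hl] at hx
  obtain ⟨s, hs⟩ := (bij h1 h2).surjective x
  have hs : s * (act l s)⁻¹ = x := hs
  have key : ∀ y : HG σ, g • emb σ y • (QuotientGroup.mk (wel σ) : SUG σ ⧸ borel σ) =
      emb σ (x * act l y) • (QuotientGroup.mk (wel σ) : SUG σ ⧸ borel σ) := by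
    intro y
    rw [smul_smul, hx, mul_assoc, tor_emb, ← mul_assoc, ← map_mul, mul_smul]
    congr 1
    change (QuotientGroup.mk (tor σ l * wel σ) : SUG σ ⧸ borel σ) = QuotientGroup.mk (wel σ)
    rw [eq_comm, QuotientGroup.eq, wel_inv]
    have h3 := wel_tor (σ := σ) l
    rw [← mul_assoc, h3]
    exact tor_mem _
  refine ⟨emb σ s • (QuotientGroup.mk (wel σ) : SUG σ ⧸ borel σ), ?_, ?_, ?_⟩
  · intro h
    have h3 : (QuotientGroup.mk (wel σ) : SUG σ ⧸ borel σ) = (emb σ s)⁻¹ • x0 σ := by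
      rw [← h, inv_smul_smul]
    have h4 : (emb σ s)⁻¹ • x0 σ = x0 σ := smul_x0.2 ((borel σ).inv_mem (emb_mem s))
    rw [h4] at h3
    have h5 : wel σ • x0 σ = x0 σ := by
      rw [← h3]
      conv_rhs => rw [h3]
      change (QuotientGroup.mk (wel σ * wel σ) : SUG σ ⧸ borel σ) = _
      rw [wel_mul_wel]
      rfl
    have h6 := smul_x0.1 h5
    rw [mem_borel, wel_val] at h6
    have h7 := h6.2
    simp [Wm] at h7
  · rw [key]
    congr 2
    rw [← hs, inv_mul_cancel_right]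
  · intro y hy
    by_cases hy0 : y = x0 σ
    · exact Or.inl hy0
    right
    obtain ⟨⟨_, t, rfl⟩, ht⟩ := (data_SUG (σ := σ)).exists_eq y hy0
    have ht : emb σ t • (QuotientGroup.mk (wel σ) : SUG σ ⧸ borel σ) = y := ht
    rw [← ht, key] at hy
    have h4 := (data_SUG (σ := σ)).smul_w_inj ⟨_, x * act l t, rfl⟩ ⟨_, t, rfl⟩ hy
    have h5 : x * act l t = t := emb_injective (congrArg Subtype.val h4)
    have h6 : t = s := by
      apply (bij h1 h2).injective
      change t * (act l t)⁻¹ = s * (act l s)⁻¹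
      rw [hs]
      exact mul_inv_eq_of_eq_mul h5.symm
    rw [← ht, h6]

end

section Fin

variable {F : Type*} [Field F] [Fintype F] {q : ℕ} {σ : F →+* F} [hσ : Fact (∀ x, σ (σ x) = x)]

/-- **`|H ∩ B| = q² - 1` implies that `|H|` is even** -/
theorem even_card (hF : Fintype.card F = q ^ 2) (hs : ∀ x, σ x = x ^ q) (hq : 3 ≤ q)
    {H : Subgroup (SUG σ)} (hHB : ∀ g : SUG σ, ∃ h ∈ H, ∃ b ∈ borel σ, g = h * b)
    (hz : Nat.card (ZR H) = 1) (hA : Nat.card (AR H) = 1) (hL : Nat.card (Lam H) = q ^ 2 - 1) :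
    2 ∣ Nat.card H := by
  classical
  -- a generator
  obtain ⟨l, hl⟩ := IsCyclic.exists_generator (α := Fˣ)
  have hlo : orderOf l = q ^ 2 - 1 := by
    rw [orderOf_eq_card_of_forall_mem_zpowers hl, card_units hF]
  have hq1 : q + 1 < q ^ 2 - 1 := by
    have : q ^ 2 = q * q := sq q
    have : 3 * q ≤ q * q := Nat.mul_le_mul_right q hq
    omega
  have h2 : (l : F) * σ (l : F) ≠ 1 := by
    intro h
    rw [hs] at h
    have h3 : l ^ (q + 1) = 1 := Units.ext (by
      rw [Units.val_pow_eq_pow_val, Units.val_one, pow_succ, mul_comm]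
      exact h)
    have h4 := orderOf_dvd_of_pow_eq_one h3
    have := Nat.le_of_dvd (by omega) h4
    omega
  have h1 : (l : F) ^ 2 / σ (l : F) ≠ 1 := by
    intro h
    have h3 := pow_three_of_nu (σ := σ) (l := l) (Units.ext (by rw [nu_val]; exact h))
    have h4 := orderOf_dvd_of_pow_eq_one h3
    have := Nat.le_of_dvd (by omega) h4
    omega
  have hLtop : Lam H = ⊤ := by
    apply Subgroup.eq_top_of_card_eq
    rw [hL, card_units hF]
  obtain ⟨g, hg, hgH, hgl⟩ := mem_Lam.1 (show l ∈ Lam H by rw [hLtop]; trivial)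
  -- `chi` is injective on `H ∩ B`
  have hinj : ∀ k (hk : k ∈ borel σ), k ∈ H → chi σ ⟨k, hk⟩ = 1 → k = 1 := by
    intro k hk hkH h
    obtain ⟨x, hx⟩ := chi_eq_one.1 h
    have hx : emb σ x = k := hx
    have h3 : x.a = 0 := by
      have h4 : x.a ∈ AR H := ⟨x, by rw [mem_RH, hx]; exact hkH, rfl⟩
      rw [AddSubgroup.eq_bot_of_card_eq (AR H) hA] at h4
      exact h4
    have h5 : x.b = 0 := by
      have h4 : x.b ∈ ZR H := ⟨x, by rw [mem_RH, hx]; exact hkH, h3, rfl⟩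
      rw [AddSubgroup.eq_bot_of_card_eq (ZR H) hz] at h4
      exact h4
    have h6 : x = 1 := by
      ext
      · exact h3
      · exact h5
    rw [← hx, h6, map_one]
  have hgen : ∀ k (hk : k ∈ borel σ), k ∈ H → k ∈ Subgroup.zpowers g := by
    intro k hk hkH
    obtain ⟨j, hj⟩ := hl (chi σ ⟨k, hk⟩)
    have hj : l ^ j = chi σ ⟨k, hk⟩ := hj
    refine ⟨j, ?_⟩
    change g ^ j = k
    have hgj : g ^ j ∈ borel σ := (borel σ).zpow_mem hg j
    have h3 : chi σ ⟨k * (g ^ j)⁻¹, (borel σ).mul_mem hk ((borel σ).inv_mem hgj)⟩ = 1 := by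
      have : (⟨k * (g ^ j)⁻¹, (borel σ).mul_mem hk ((borel σ).inv_mem hgj)⟩ : borel σ) =
        ⟨k, hk⟩ * (⟨g, hg⟩ ^ j)⁻¹ := rfl
      rw [this, map_mul, map_inv, map_zpow, hgl, hj, mul_inv_cancel]
    have h4 := hinj _ _ (H.mul_mem hkH (H.inv_mem (H.zpow_mem hgH j))) h3
    exact (mul_inv_eq_one.1 h4).symm
  obtain ⟨x1, hx1, hgx1, huniq⟩ := exists_unique_fix h1 h2 hg hgl
  -- `h` moving `x0` to `x1`
  obtain ⟨k, hk⟩ := QuotientGroup.mk_surjective x1
  obtain ⟨h, hh, b, hb, rfl⟩ := hHB k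
  have e1 : h • x0 σ = x1 := by
    rw [← hk]
    change (QuotientGroup.mk (h * 1) : SUG σ ⧸ borel σ) = _
    rw [QuotientGroup.eq, mul_one, inv_mul_cancel_left]
    exact hb
  have hcB : h⁻¹ * g * h ∈ borel σ := by
    rw [← smul_x0, mul_smul, mul_smul, e1, hgx1, ← e1, inv_smul_smul]
  have hcH : h⁻¹ * g * h ∈ H := H.mul_mem (H.mul_mem (H.inv_mem hh) hgH) hh
  -- it generates the same group
  have hord : Nat.card (Subgroup.zpowers (h⁻¹ * g * h)) = Nat.card (Subgroup.zpowers g) := by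
    rw [Nat.card_zpowers, Nat.card_zpowers]
    have : h⁻¹ * g * h = MulAut.conj h⁻¹ g := by simp [MulAut.conj_apply]
    rw [this]
    exact orderOf_injective (MulAut.conj h⁻¹).toMonoidHom (MulAut.conj h⁻¹).injective g
  have hle : Subgroup.zpowers (h⁻¹ * g * h) ≤ Subgroup.zpowers g := by
    rw [Subgroup.zpowers_le]
    exact hgen _ hcB hcH
  have heq : Subgroup.zpowers (h⁻¹ * g * h) = Subgroup.zpowers g :=
    Subgroup.eq_of_le_of_card_ge hle hord.ge
  have hgc : g ∈ Subgroup.zpowers (h⁻¹ * g * h) := by rw [heq]; exact Subgroup.mem_zpowers g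
  have e2 : g • (h⁻¹ • x0 σ) = h⁻¹ • x0 σ := by
    have h3 : (h⁻¹ * g * h) ∈ MulAction.stabilizer (SUG σ) (h⁻¹ • x0 σ) := by
      rw [MulAction.mem_stabilizer_iff, mul_smul, mul_smul, smul_inv_smul, smul_x0.2 hg]
    have h4 : Subgroup.zpowers (h⁻¹ * g * h) ≤ MulAction.stabilizer (SUG σ) (h⁻¹ • x0 σ) := by
      rwa [Subgroup.zpowers_le]
    exact h4 hgc
  have e3 : h • x1 = x0 σ := by
    rcases huniq _ e2 with h3 | h3
    · exfalso
      apply hx1
      rw [← e1, ← h3, smul_inv_smul, h3]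
    · rw [← h3, smul_inv_smul]
  have e4 : ∀ n : ℕ, h ^ (2 * n) • x0 σ = x0 σ := by
    intro n
    induction n with
    | zero => rw [mul_zero, pow_zero, one_smul]
    | succ n ih =>
      rw [mul_add, mul_one, pow_add, mul_smul]
      have : h ^ 2 • x0 σ = x0 σ := by rw [sq, mul_smul, e1, e3]
      rw [this, ih]
  have h5 : 2 ∣ orderOf h := by
    by_contra h6
    have h7 : orderOf h = 2 * (orderOf h / 2) + 1 := by omega
    have h8 := e4 (orderOf h / 2)
    have h9 : h ^ (2 * (orderOf h / 2) + 1) = 1 := by rw [← h7, pow_orderOf_eq_one]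
    rw [pow_succ'] at h9
    have h10 : (h * h ^ (2 * (orderOf h / 2))) • x0 σ = x1 := by rw [mul_smul, h8, e1]
    rw [h9, one_smul] at h10
    exact hx1 h10.symm
  have h6 : orderOf h ∣ Nat.card H := by
    have := orderOf_dvd_natCard (⟨h, hh⟩ : H)
    rwa [Subgroup.orderOf_mk] at this
  exact h5.trans h6

end Fin

end Cfsg.Agent.H212.U3.Even
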