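import Mathlib
import Cfsg.Agent.H212.U3.Inv2

/-!
# The image of the centraliser of an involution in `PSL₂(q)`
-/

set_option autoImplicit false

namespace Cfsg.Agent.H212.U3.Inv3

open Subgroup MulAction
open Cfsg.Agent
open Cfsg.Agent.UThreeGen.MatGroup
open Cfsg.Agent.H212.U3.Model Cfsg.Agent.H212.U3.Sub Cfsg.Agent.H212.U3.Num Cfsg.Agent.H212.U3.LSub
open Cfsg.Agent.H212.U3.CaseE Cfsg.Agent.H212.U3.Inv Cfsg.Agent.H212.U3.Inv2
open Cfsg.Agent.HKS.EndU (tor tmat tor_val tor_mem act tor_emb ci ci_val wel_tor exists_tor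
  tor_mem_center card_anti comm_of_a sne)

section

variable {F : Type*} [Field F] {σ : F →+* F} [hσ : Fact (∀ x, σ (σ x) = x)]
  {δ : F} (hδ : σ δ = -δ) (h0 : δ ≠ 0)

omit hσ in
theorem ker_val {v : Fˣ} (hv : v ∈ (nrm σ).ker) : (v : F) * σ (v : F) = 1 := by
  have h1 : nrm σ v = 1 := hv
  rw [← nrm_val, h1, Units.val_one]

theorem commute_tor (M : Matrix.SpecialLinearGroup (Fin 2) (Kf σ)) {v : Fˣ} (hv : v ∈ (nrm σ).ker) :
    Commute (jh hδ h0 M) (tor σ v) := by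
  have h1 := ker_val hv
  have h2 : (σ (v : F))⁻¹ = v := by
    rw [inv_eq_iff_eq_inv]
    exact eq_inv_of_mul_eq_one_right h1
  apply Subtype.ext
  apply Subtype.ext
  change (jh hδ h0 M).1.1 * (tor σ v).1.1 = (tor σ v).1.1 * (jh hδ h0 M).1.1
  rw [jh_val, tor_val]
  ext i j
  fin_cases i <;> fin_cases j <;>
    simp [jm, tmat, Matrix.mul_apply, Fin.sum_univ_three, h2] <;> ring

/-- `SL₂(q) × Z → SUG σ` -/
noncomputable def Th : Matrix.SpecialLinearGroup (Fin 2) (Kf σ) × (nrm σ).ker →* SUG σ :=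
  MonoidHom.noncommCoprod (jh hδ h0) ((tor σ).comp (nrm σ).ker.subtype)
    (fun M v => commute_tor hδ h0 M v.2)

theorem Th_apply (M : Matrix.SpecialLinearGroup (Fin 2) (Kf σ)) (v : (nrm σ).ker) :
    Th hδ h0 (M, v) = jh hδ h0 M * tor σ v := MonoidHom.noncommCoprod_apply _ _ _ _

theorem range_Th_le : (Th hδ h0).range ≤ Subgroup.centralizer {t0 σ} := by
  rintro _ ⟨⟨M, v⟩, rfl⟩
  rw [Subgroup.mem_centralizer_singleton_iff, Th_apply]
  have h1 := t0_comm_L hδ h0 (g := jh hδ h0 M) ⟨M, rfl⟩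
  have h2 : tor σ (v : Fˣ) * t0 σ = t0 σ * tor σ (v : Fˣ) := by
    rw [t0, ← map_mul, ← map_mul, mul_comm]
  rw [mul_assoc, h2, ← mul_assoc, ← h1, mul_assoc]

/-- entries of the centraliser of `t0` -/
theorem entries_of_centralizer (h2 : (2 : F) ≠ 0) {g : SUG σ}
    (hg : g ∈ Subgroup.centralizer {t0 σ}) : g.1.1 0 1 = 0 ∧ g.1.1 1 0 = 0 ∧ g.1.1 1 2 = 0 ∧
      g.1.1 2 1 = 0 ∧ g.1.1 1 1 * σ (g.1.1 1 1) = 1 := by
  rw [Subgroup.mem_centralizer_singleton_iff] at hg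
  have h3 : g.1.1 * (t0 σ).1.1 = (t0 σ).1.1 * g.1.1 := congrArg (fun g : SUG σ => g.1.1) hg
  rw [t0_val] at h3
  have e : ∀ i j, (g.1.1 * (!![-1, 0, 0; 0, 1, 0; 0, 0, -1] : Matrix (Fin 3) (Fin 3) F)) i j =
    ((!![-1, 0, 0; 0, 1, 0; 0, 0, -1] : Matrix (Fin 3) (Fin 3) F) * g.1.1) i j :=
      fun i j => congrFun (congrFun h3 i) j
  have half : ∀ a : F, a = -a → a = 0 := by
    intro a ha
    have : (2 : F) * a = 0 := by linear_combination ha
    exact (mul_eq_zero.1 this).resolve_left h2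
  have e01 := e 0 1
  have e10 := e 1 0
  have e12 := e 1 2
  have e21 := e 2 1
  simp [Matrix.mul_apply, Fin.sum_univ_three] at e01 e10 e12 e21
  have h01 := half _ e01
  have h10 := half _ e10.symm
  have h12 := half _ e12.symm
  have h21 := half _ e21
  refine ⟨h01, h10, h12, h21, ?_⟩
  have h4 := entry_of_mem_SUG g.2 1 1
  rw [h01, h21] at h4
  have j11 : Gm F 1 1 = -1 := by simp [Gm]
  rw [j11] at h4
  simp at h4
  exact h4

theorem mem_range_Th (h2 : (2 : F) ≠ 0) {g : SUG σ} (hg : g ∈ Subgroup.centralizer {t0 σ})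
    {v : Fˣ} (hv : v ∈ (nrm σ).ker) (h : g.1.1 1 1 = σ (v : F) / v) : g ∈ (Th hδ h0).range := by
  obtain ⟨h01, h10, h12, h21, -⟩ := entries_of_centralizer h2 hg
  have hv0 : (v : F) ≠ 0 := v.ne_zero
  have hsv : σ (v : F) ≠ 0 := sne v
  have h3 : g * tor σ v⁻¹ ∈ (jh hδ h0).range := by
    apply exists_jh hδ h0 <;> rw [coe_mul_SUG, tor_val] <;>
      simp [tmat, Matrix.mul_apply, Fin.sum_univ_three, h01, h10, h12, h21]
    rw [h]
    field_simp
  obtain ⟨M, hM⟩ := h3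
  refine ⟨(M, ⟨v, hv⟩), ?_⟩
  rw [Th_apply, hM]
  change g * tor σ v⁻¹ * tor σ v = g
  rw [mul_assoc, ← map_mul, inv_mul_cancel, map_one, mul_one]

end

section Fin

variable {F : Type*} [Field F] [Fintype F] {q : ℕ} {σ : F →+* F} [hσ : Fact (∀ x, σ (σ x) = x)]
  {δ : F} (hδ : σ δ = -δ) (h0 : δ ≠ 0)

omit hσ in
/-- squares in the norm one group -/
theorem exists_sq (a b : Fˣ) (ha : a ∈ (nrm σ).ker) (hb : b ∈ (nrm σ).ker) :
    (∃ v ∈ (nrm σ).ker, (a : F) = σ (v : F) / v) ∨ (∃ v ∈ (nrm σ).ker, (b : F) = σ (v : F) / v) ∨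
      ∃ v ∈ (nrm σ).ker, ((a * b : Fˣ) : F) = σ (v : F) / v := by
  obtain ⟨γ, hγ⟩ := IsCyclic.exists_generator (α := (nrm σ).ker)
  have key : ∀ (c : Fˣ) (j : ℤ), c = (γ : Fˣ) ^ (2 * j) → ∃ v ∈ (nrm σ).ker, (c : F) = σ (v : F) / v := by
    intro c j hc
    refine ⟨(γ : Fˣ) ^ (-j), Subgroup.zpow_mem _ γ.2 _, ?_⟩
    have h1 := ker_val (Subgroup.zpow_mem _ γ.2 (-j))
    have h2 : σ (((γ : Fˣ) ^ (-j) : Fˣ) : F) = ((((γ : Fˣ) ^ (-j))⁻¹ : Fˣ) : F) := by
      rw [Units.val_inv_eq_inv_val]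
      exact eq_inv_of_mul_eq_one_right h1
    rw [h2, div_eq_mul_inv, ← Units.val_inv_eq_inv_val, ← Units.val_mul, hc]
    congr 1
    rw [← zpow_neg, neg_neg, ← zpow_add]
    congr 1
    ring
  obtain ⟨i, hi⟩ := hγ ⟨a, ha⟩
  obtain ⟨j, hj⟩ := hγ ⟨b, hb⟩
  have hi' : (γ : Fˣ) ^ i = a := congrArg Subtype.val hi
  have hj' : (γ : Fˣ) ^ j = b := congrArg Subtype.val hj
  rcases Int.even_or_odd' i with ⟨i', hi2 | hi2⟩
  · exact Or.inl (key a i' (by rw [← hi', hi2]))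
  rcases Int.even_or_odd' j with ⟨j', hj2 | hj2⟩
  · exact Or.inr (Or.inl (key b j' (by rw [← hj', hj2])))
  · right; right
    refine key (a * b) (i' + j' + 1) ?_
    rw [← hi', ← hj', ← zpow_add, hi2, hj2]
    congr 1
    ring

/-- `H ∩ range Θ` has index at most two in the centraliser -/
theorem card_C_le (h2 : (2 : F) ≠ 0) (H : Subgroup (SUG σ)) :
    Nat.card (H ⊓ Subgroup.centralizer {t0 σ} : Subgroup (SUG σ)) ≤
      2 * Nat.card (H ⊓ (Th hδ h0).range : Subgroup (SUG σ)) := by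
  classical
  set C := H ⊓ Subgroup.centralizer {t0 σ} with hC
  set D := H ⊓ (Th hδ h0).range with hD
  have hDC : D ≤ C := inf_le_inf_left H (range_Th_le hδ h0)
  -- products
  have hmid : ∀ g ∈ C, ∃ u ∈ (nrm σ).ker, (u : F) = g.1.1 1 1 := by
    intro g hg
    obtain ⟨-, -, -, -, h11⟩ := entries_of_centralizer h2 hg.2
    have hne : g.1.1 1 1 ≠ 0 := by
      intro h
      rw [h, zero_mul] at h11
      exact zero_ne_one h11
    exact ⟨Units.mk0 _ hne, Units.ext h11, rfl⟩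
  have hprod : ∀ g ∈ C, ∀ k ∈ C, g ∈ D ∨ k ∈ D ∨ g * k ∈ D := by
    intro g hg k hk
    obtain ⟨u, hu, hug⟩ := hmid g hg
    obtain ⟨v, hv, hvk⟩ := hmid k hk
    rcases exists_sq u v hu hv with ⟨w, hw, h⟩ | ⟨w, hw, h⟩ | ⟨w, hw, h⟩
    · exact Or.inl ⟨hg.1, mem_range_Th hδ h0 h2 hg.2 hw (by rw [← hug, h])⟩
    · exact Or.inr (Or.inl ⟨hk.1, mem_range_Th hδ h0 h2 hk.2 hw (by rw [← hvk, h])⟩)
    · refine Or.inr (Or.inr ⟨H.mul_mem hg.1 hk.1, mem_range_Th hδ h0 h2 (C.mul_mem hg hk).2 hw ?_⟩)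
      rw [← h, Units.val_mul, hug, hvk, coe_mul_SUG, Matrix.mul_apply, Fin.sum_univ_three]
      obtain ⟨-, h10, h12, -, -⟩ := entries_of_centralizer h2 hg.2
      rw [h10, h12]
      ring
  by_cases hall : ∀ g ∈ C, g ∈ D
  · have : C = D := le_antisymm hall hDC
    rw [this]
    omega
  · push Not at hall
    obtain ⟨g, hg, hgD⟩ := hall
    have hsub : (C : Set (SUG σ)) ⊆ (D : Set (SUG σ)) ∪ (fun x => g⁻¹ * x) '' (D : Set (SUG σ)) := by
      intro k hk
      rcases hprod g hg k hk with h | h | h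
      · exact absurd h hgD
      · exact Or.inl h
      · exact Or.inr ⟨g * k, h, by group⟩
    have h3 := Set.ncard_le_ncard hsub (Set.toFinite _)
    have h4 := Set.ncard_union_le (D : Set (SUG σ)) ((fun x => g⁻¹ * x) '' (D : Set (SUG σ)))
    have h5 := Set.ncard_image_le (f := fun x => g⁻¹ * x) (Set.toFinite (D : Set (SUG σ)))
    have h6 : (C : Set (SUG σ)).ncard = Nat.card C := rfl
    have h7 : (D : Set (SUG σ)).ncard = Nat.card D := rfl
    omega

/-- **the bound** -/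
theorem bound (hF : Fintype.card F = q ^ 2) (hs : ∀ x, σ x = x ^ q) (hodd : Odd q)
    (h2 : (2 : F) ≠ 0) {H : Subgroup (SUG σ)} (ht : t0 σ ∈ H)
    (hC : Nat.card (H ⊓ Subgroup.centralizer {t0 σ} : Subgroup (SUG σ)) =
      (q + 1) * Nat.card (Lam H)) :
    ∃ N m : ℕ, (N ≤ q + 1 ∨ N = 12 ∨ N = 24 ∨ N = 60) ∧ N * 2 ∣ q * (q ^ 2 - 1) ∧
      m ∣ Nat.card (Lam H) ∧ m ∣ q + 1 ∧ (q + 1) * Nat.card (Lam H) ≤ 2 * m * N := by
  obtain ⟨δ, h0, hδ⟩ := LieClassical.HermBasic.exists_trace_zero_ne hF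
  have hδ : σ δ = -δ := by
    rw [← hs] at hδ
    linear_combination hδ
  have hq : 2 ≤ q := LieClassical.HermBasic.two_le hF
  let _ : Fintype (Kf σ) := Fintype.ofFinite _
  have hK : Fintype.card (Kf σ) = q := by rw [← Nat.card_eq_fintype_card, card_Kf hF hs]
  obtain ⟨p, hp⟩ := CharP.exists (Kf σ)
  have : Fact p.Prime := ⟨CharP.char_is_prime (Kf σ) p⟩
  let Z := Subgroup.center (Matrix.SpecialLinearGroup (Fin 2) (Kf σ))
  let H' := H.comap (Th hδ h0)
  let fs : Matrix.SpecialLinearGroup (Fin 2) (Kf σ) × (nrm σ).ker →*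
    Matrix.SpecialLinearGroup (Fin 2) (Kf σ) := MonoidHom.fst _ _
  let pr := (QuotientGroup.mk' Z).comp fs
  let T : Subgroup Fˣ := H.comap (tor σ) ⊓ (nrm σ).ker
  have hk0 : (2 : Kf σ) ≠ 0 := by
    intro h
    apply h2
    exact congrArg Subtype.val h
  have hZc : Nat.card Z = 2 := ClassicalGeometry.PSL2Basic.card_center_SL2_odd hk0
  have hN := card_map_mul pr H'
  have hH' := card_map_mul (Th hδ h0) H'
  have e1 : H'.map (Th hδ h0) = H ⊓ (Th hδ h0).range := by rw [Subgroup.map_comap_eq, inf_comm]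
  have e2 : H' ⊓ (Th hδ h0).ker = (Th hδ h0).ker := by
    rw [inf_eq_right]
    intro x hx
    change Th hδ h0 x ∈ H
    rw [show Th hδ h0 x = 1 from hx]
    exact H.one_mem
  rw [e1, e2] at hH'
  -- the kernel of `Θ`
  have hker2 : 2 ∣ Nat.card (Th hδ h0).ker := by
    have hv : (-1 : Fˣ) ∈ (nrm σ).ker := by
      change nrm σ (-1) = 1
      apply Units.ext
      rw [nrm_val]
      simp
    have hx : ((-1 : Matrix.SpecialLinearGroup (Fin 2) (Kf σ)), (⟨-1, hv⟩ : (nrm σ).ker)) ∈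
        (Th hδ h0).ker := by
      change Th hδ h0 _ = 1
      rw [Th_apply, jh_neg_one hδ h0]
      exact t0_mul
    have hxo : orderOf (⟨_, hx⟩ : (Th hδ h0).ker) = 2 := by
      apply orderOf_eq_prime
      · apply Subtype.ext
        apply Prod.ext
        · simp
        · apply Subtype.ext
          simp
      · intro h
        have h3 : (-1 : Fˣ) = 1 := congrArg (fun y : (Th hδ h0).ker => (y.1.2 : Fˣ)) h
        have h4 : (-1 : F) = 1 := by simpa using congrArg Units.val h3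
        apply h2
        linear_combination -h4
    exact (dvd_of_eq hxo.symm).trans (orderOf_dvd_natCard _)
  have hkerq : Nat.card (Th hδ h0).ker ∣ q + 1 := by
    rw [← card_ker_nrm (σ := σ) hF hs]
    let sn : (Th hδ h0).ker →* (nrm σ).ker :=
      (MonoidHom.snd (Matrix.SpecialLinearGroup (Fin 2) (Kf σ)) (nrm σ).ker).comp (Th hδ h0).ker.subtype
    refine Subgroup.card_dvd_of_injective sn ?_
    rw [injective_iff_map_eq_one]
    rintro ⟨⟨M, v⟩, hx⟩ hv
    have hv : v = 1 := hv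
    subst hv
    have h3 : Th hδ h0 (M, 1) = 1 := hx
    rw [Th_apply] at h3
    have h4 : jh hδ h0 M = 1 := by
      rw [← h3]
      simp
    have h5 : M = 1 := jh_injective hδ h0 (h4.trans (map_one _).symm)
    subst h5
    rfl
  -- the kernel of `pr`
  have hkp : Nat.card (H' ⊓ pr.ker : Subgroup _) ≤ 2 * Nat.card T := by
    have h3 := card_map_mul fs (H' ⊓ pr.ker)
    rw [← h3]
    apply Nat.mul_le_mul
    · refine (Subgroup.card_le_of_le (K := Z) ?_).trans hZc.le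
      rintro _ ⟨x, hx, rfl⟩
      have h4 : QuotientGroup.mk' Z (fs x) = 1 := hx.2
      rw [← MonoidHom.mem_ker, QuotientGroup.ker_mk'] at h4
      exact h4
    · refine Nat.card_le_card_of_injective (β := T) (fun x => ⟨(x.1.2 : Fˣ), ?_, x.1.2.2⟩) ?_
      · change tor σ _ ∈ H
        have h5 : Th hδ h0 x.1 ∈ H := x.2.1.1
        have h6 : x.1.1 = 1 := x.2.2
        have h7 : Th hδ h0 x.1 = jh hδ h0 x.1.1 * tor σ x.1.2 := Th_apply hδ h0 x.1.1 x.1.2
        rw [h7, h6, map_one, one_mul] at h5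
        exact h5
      · intro x y hxy
        have h6 : x.1.1 = 1 := x.2.2
        have h7 : y.1.1 = 1 := y.2.2
        have h8 : (x.1.2 : Fˣ) = y.1.2 := congrArg (fun t : T => (t : Fˣ)) hxy
        apply Subtype.ext
        exact Prod.ext (h6.trans h7.symm) (Subtype.ext h8)
  have hmq : Nat.card T ∣ q + 1 := by
    rw [← card_ker_nrm (σ := σ) hF hs]
    exact Subgroup.card_dvd_of_le inf_le_right
  have hmk : Nat.card T ∣ Nat.card (Lam H) := by
    apply Subgroup.card_dvd_of_le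
    rintro l ⟨hl, -⟩
    exact mem_Lam.2 ⟨tor σ l, tor_mem l, hl, chi_tor l⟩
  have hle := card_C_le hδ h0 h2 H
  have hker0 : 2 ≤ Nat.card (Th hδ h0).ker := Nat.le_of_dvd Nat.card_pos hker2
  refine ⟨Nat.card (H'.map pr), Nat.card T, ?_, ?_, hmk, hmq, ?_⟩
  · -- coprimality
    apply Dick.num_CD hK p (H'.map pr) hodd
    have h3 : Nat.card (H'.map pr) ∣ Nat.card (H ⊓ (Th hδ h0).range : Subgroup (SUG σ)) *
        Nat.card (Th hδ h0).ker := by
      rw [hH', ← hN]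
      exact dvd_mul_right _ _
    have h4 : Nat.card (H ⊓ (Th hδ h0).range : Subgroup (SUG σ)) ∣ (q + 1) * Nat.card (Lam H) := by
      rw [← hC]
      exact Subgroup.card_dvd_of_le (inf_le_inf_left H (range_Th_le hδ h0))
    have h5 : Nat.card (Lam H) ∣ (q + 1) * (q - 1) := by
      rw [← Arith.sq_sub, ← card_units hF]
      exact Subgroup.card_subgroup_dvd_card _
    obtain ⟨c1, c2⟩ := Dick.coprime_pm (dvd_refl q) (by omega)
    have h6 : Nat.Coprime ((q + 1) * ((q + 1) * (q - 1)) * (q + 1)) q := by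
      refine Nat.Coprime.mul_left (Nat.Coprime.mul_left c1.symm (Nat.Coprime.mul_left c1.symm c2.symm)) c1.symm
    refine Nat.Coprime.coprime_dvd_left (h3.trans ?_) h6
    exact Nat.mul_dvd_mul (h4.trans (Nat.mul_dvd_mul_left _ h5)) hkerq
  · have h3 := ClassicalGeometry.PSL2Basic.card_PSL2_odd (F := Kf σ) (by rw [hK]; exact hodd)
    rw [hK] at h3
    rw [← h3]
    exact Nat.mul_dvd_mul_right (Subgroup.card_subgroup_dvd_card _) 2
  · calc (q + 1) * Nat.card (Lam H) = Nat.card (H ⊓ Subgroup.centralizer {t0 σ} : Subgroup (SUG σ)) :=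
          hC.symm
      _ ≤ 2 * Nat.card (H ⊓ (Th hδ h0).range : Subgroup (SUG σ)) := hle
      _ ≤ Nat.card (Th hδ h0).ker * Nat.card (H ⊓ (Th hδ h0).range : Subgroup (SUG σ)) :=
          Nat.mul_le_mul_right _ hker0
      _ = Nat.card (H'.map pr) * Nat.card (H' ⊓ pr.ker : Subgroup _) := by rw [mul_comm, hH', hN]
      _ ≤ Nat.card (H'.map pr) * (2 * Nat.card T) := Nat.mul_le_mul_left _ hkp
      _ = 2 * Nat.card T * Nat.card (H'.map pr) := by ring

end Fin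

end Cfsg.Agent.H212.U3.Inv3
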