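import Mathlib

/-!
# A group of order `439560`
-/

set_option autoImplicit false

namespace Cfsg.Agent.H212.U3.Q11

open Subgroup

/-- the order of the normaliser of a Sylow `37`-subgroup -/
theorem card_normalizer {K : Type*} [Group K] [Finite K] (hK : Nat.card K = 37 * 11880)
    [Fact (Nat.Prime 37)] (P : Sylow 37 K)
    (hodd : ¬ 2 ∣ Nat.card (Subgroup.normalizer ((P : Subgroup K) : Set K))) (hP : Nat.card P = 37) :
    Nat.card (Subgroup.normalizer ((P : Subgroup K) : Set K)) = 111 := by
  have h3 : Nat.card (Sylow 37 K) ≡ 1 [MOD 37] := card_sylow_modEq_one 37 K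
  have h4 : Nat.card (Sylow 37 K) = (Subgroup.normalizer ((P : Subgroup K) : Set K)).index :=
    P.card_eq_index_normalizer
  have h5 := (Subgroup.normalizer ((P : Subgroup K) : Set K)).index_mul_card
  have h6 : 37 ∣ Nat.card (Subgroup.normalizer ((P : Subgroup K) : Set K)) := by
    have h7 : Nat.card P ∣ Nat.card (Subgroup.normalizer ((P : Subgroup K) : Set K)) :=
      Subgroup.card_dvd_of_le Subgroup.le_normalizer
    exact (dvd_of_eq hP.symm).trans h7
  obtain ⟨c, hc⟩ := h6
  rw [h4] at h3
  have hidx := Subgroup.index_ne_zero_of_finite (H := Subgroup.normalizer ((P : Subgroup K) : Set K))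
  generalize (Subgroup.normalizer ((P : Subgroup K) : Set K)).index = n at *
  rw [hc] at hodd h5 ⊢
  have h7 : n * c = 11880 := by
    rw [hK] at h5
    have : 37 * (n * c) = 37 * 11880 := by rw [← h5]; ring
    exact Nat.eq_of_mul_eq_mul_left (by norm_num) this
  have h8 : n = 37 * (n / 37) + 1 := by
    have h9 : n % 37 = 1 % 37 := h3
    omega
  have hn : n ∣ 11880 := ⟨c, h7.symm⟩
  have hle : n ≤ 11880 := Nat.le_of_dvd (by norm_num) hn
  have hdec : ∀ j < 322, ¬ (37 * j + 1 ∣ 11880 ∧ ¬ 2 ∣ 37 * (11880 / (37 * j + 1)) ∧ 37 * j + 1 ≠ 3960) := by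
    decide +kernel
  have hcn : 11880 / n = c := by rw [← h7]; exact Nat.mul_div_cancel_left c (Nat.pos_of_ne_zero hidx)
  have h9 := hdec (n / 37) (by omega)
  rw [← h8, hcn] at h9
  have h10 : n = 3960 := by
    by_contra h
    exact h9 ⟨hn, hodd, h⟩
  rw [h10] at h7
  omega

/-- elements of order `37` normalising a subgroup of order `5` centralise it -/
theorem commute_of_normalize {K : Type*} [Group K] [Finite K] {S : Subgroup K} (hS : Nat.card S = 5)
    {y : K} (hy : orderOf y = 37) (hn : y ∈ Subgroup.normalizer (S : Set K)) :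
    y ∈ Subgroup.centralizer (S : Set K) := by
  have : Fact (Nat.Prime 5) := ⟨by norm_num⟩
  have hc : IsCyclic S := isCyclic_of_prime_card hS
  have h1 := IsCyclic.card_mulAut S
  rw [hS] at h1
  have h2 : (Nat.totient 5) = 4 := by decide
  rw [h2] at h1
  let f := S.normalizerMonoidHom
  have h3 : orderOf (f ⟨y, hn⟩) ∣ 4 := by
    rw [← h1]
    exact orderOf_dvd_natCard _
  have h4 : orderOf (f ⟨y, hn⟩) ∣ 37 := by
    have := orderOf_map_dvd f ⟨y, hn⟩
    rwa [Subgroup.orderOf_mk, hy] at this
  have h5 : orderOf (f ⟨y, hn⟩) = 1 := Nat.dvd_one.1 (Nat.dvd_gcd h3 h4)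
  rw [orderOf_eq_one_iff] at h5
  have h6 : (⟨y, hn⟩ : Subgroup.normalizer (S : Set K)) ∈ S.normalizerMonoidHom.ker := h5
  rw [Subgroup.normalizerMonoidHom_ker] at h6
  exact h6

/-- **there is no such group** -/
theorem false_of {K : Type*} [Group K] [Finite K] (hK : Nat.card K = 37 * 11880)
    (hodd : ∀ (_ : Fact (Nat.Prime 37)) (P : Sylow 37 K), Nat.card P = 37 ∧
      ¬ 2 ∣ Nat.card (Subgroup.normalizer ((P : Subgroup K) : Set K)))
    {z : K} (hz : z ∈ Subgroup.center K) (hzo : orderOf z = 3) : False := by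
  have h37 : Fact (Nat.Prime 37) := ⟨by norm_num⟩
  have h5 : Fact (Nat.Prime 5) := ⟨by norm_num⟩
  have hN : ∀ P : Sylow 37 K, Nat.card (Subgroup.normalizer ((P : Subgroup K) : Set K)) = 111 :=
    fun P => card_normalizer hK P (hodd h37 P).2 (hodd h37 P).1
  obtain ⟨P⟩ : Nonempty (Sylow 37 K) := inferInstance
  have hPc := (hodd h37 P).1
  have hcyc : IsCyclic P := isCyclic_of_prime_card hPc
  have hCN : Subgroup.centralizer ((P : Subgroup K) : Set K) ≤
      Subgroup.normalizer ((P : Subgroup K) : Set K) := Subgroup.centralizer_le_normalizer _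
  have hPC : (P : Subgroup K) ≤ Subgroup.centralizer ((P : Subgroup K) : Set K) := by
    intro x hx y hy
    have : IsMulCommutative P := inferInstance
    exact congrArg Subtype.val (mul_comm' (⟨y, hy⟩ : P) ⟨x, hx⟩)
  have hzC : z ∈ Subgroup.centralizer ((P : Subgroup K) : Set K) := by
    intro y _
    exact Subgroup.mem_center_iff.1 hz y
  have hCc : 111 ∣ Nat.card (Subgroup.centralizer ((P : Subgroup K) : Set K)) := by
    have e1 : 37 ∣ Nat.card (Subgroup.centralizer ((P : Subgroup K) : Set K)) := by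
      have := Subgroup.card_dvd_of_le hPC
      exact (dvd_of_eq hPc.symm).trans this
    have e2 : 3 ∣ Nat.card (Subgroup.centralizer ((P : Subgroup K) : Set K)) := by
      have h := orderOf_dvd_natCard (⟨z, hzC⟩ : Subgroup.centralizer ((P : Subgroup K) : Set K))
      rw [Subgroup.orderOf_mk, hzo] at h
      exact h
    exact Nat.Coprime.mul_dvd_of_dvd_of_dvd (m := 37) (n := 3) (by norm_num) e1 e2
  have hCeq : Subgroup.centralizer ((P : Subgroup K) : Set K) =
      Subgroup.normalizer ((P : Subgroup K) : Set K) := by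
    apply Subgroup.eq_of_le_of_card_ge hCN
    rw [hN P]
    exact Nat.le_of_dvd Nat.card_pos hCc
  -- the normal complement
  let M : Subgroup K := (MonoidHom.transferSylow P hCeq.ge).ker
  have hM := MonoidHom.ker_transferSylow_isComplement' P hCeq.ge
  have hMi : M.index = 37 := hM.symm.index_eq_card.trans hPc
  have hMc : Nat.card M = 11880 := by
    have h1 := M.card_mul_index
    rw [hMi, hK] at h1
    omega
  -- Sylow `5`-subgroup
  obtain ⟨S⟩ : Nonempty (Sylow 5 M) := inferInstance
  have hS : Nat.card S = 5 := by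
    rw [S.card_eq_multiplicity, hMc]
    have : (Nat.factorization 11880) 5 = 1 := by
      have h1 : (11880 : ℕ) = 5 ^ 1 * 2376 := by norm_num
      rw [h1, Nat.factorization_mul (by norm_num) (by norm_num), Nat.factorization_pow]
      simp [Nat.Prime.factorization (show Nat.Prime 5 by norm_num),
        Nat.factorization_eq_zero_of_not_dvd (show ¬ 5 ∣ 2376 by norm_num)]
    rw [this, pow_one]
  have hfr := S.normalizer_sup_eq_top
  set S' : Subgroup K := (S : Subgroup M).map M.subtype with hS'
  have hS'c : Nat.card S' = 5 := by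
    rw [hS', Subgroup.card_map_of_injective M.subtype_injective]
    exact hS
  have h37 : 37 ∣ Nat.card (Subgroup.normalizer (S' : Set K)) := by
    rw [← hMi, ← Subgroup.relIndex_top_right, ← hfr, Subgroup.relIndex_sup_right]
    exact Subgroup.relIndex_dvd_card _ _
  obtain ⟨y, hy⟩ := exists_prime_orderOf_dvd_card' 37 h37
  have hyo : orderOf y.1 = 37 := by rw [Subgroup.orderOf_coe, hy]
  have hyC := commute_of_normalize hS'c hyo y.2
  -- the Sylow subgroup generated by `y`
  have hQ : IsPGroup 37 (Subgroup.zpowers y.1) := by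
    apply IsPGroup.of_card (n := 1)
    rw [Nat.card_zpowers, hyo, pow_one]
  obtain ⟨P', hP'⟩ := hQ.exists_le_sylow
  have hQP : Subgroup.zpowers y.1 = P' := by
    apply Subgroup.eq_of_le_of_card_ge hP'
    rw [Nat.card_zpowers, hyo]
    exact (hodd inferInstance P').1.le
  have hSN : S' ≤ Subgroup.normalizer ((P' : Subgroup K) : Set K) := by
    refine le_trans ?_ (Subgroup.centralizer_le_normalizer _)
    rw [← hQP]
    intro s hs
    rw [Subgroup.mem_centralizer_iff]
    intro w hw
    obtain ⟨j, rfl⟩ := Subgroup.mem_zpowers_iff.1 hw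
    have h1 : Commute y.1 s := (hyC s hs).symm
    exact (h1.zpow_left j).eq
  have h2 := Subgroup.card_dvd_of_le hSN
  rw [hS'c, hN P'] at h2
  norm_num at h2

end Cfsg.Agent.H212.U3.Q11
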